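import Mathlib
import Groth.Agent.Hensel.HenselizationProps
import Groth.Agent.FlatGr.Basic
import Groth.Agent.Hensel.HenselizationNoeth
import Groth.Agent.Hensel.HenselizationNormal

/-!
Henselian flat algebras at a prime.
-/

set_option autoImplicit false
set_option linter.style.haveILetI false

universe u

open IsLocalRing

namespace Groth.Agent.FlatDom

/-- A henselian flat local algebra over the localisation at a prime. -/
theorem exists_henselian_at {A : Type u} [CommRing A] (p : Ideal A) [p.IsPrime] :
    ∃ (R : Type u) (_ : CommRing R) (_ : HenselianLocalRing R) (_ : Algebra A R)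
      (_ : Algebra (Localization.AtPrime p) R) (_ : IsScalarTower A (Localization.AtPrime p) R),
      Module.Flat A R ∧ (maximalIdeal R).LiesOver p := by
  let R₀ := Localization.AtPrime p
  obtain ⟨hloc, hH⟩ := Groth.Agent.Hensel.exists_henselization R₀
  let R := Hensel.Env R₀ (IsLocalRing.ResidueField R₀)
  haveI := hloc
  haveI := hH
  haveI : HenselianLocalRing R := hH.1
  haveI : Module.Flat R₀ R := Groth.Agent.Hensel.henselization_flat (R := R₀) (S := R)
  exact ⟨R, inferInstance, inferInstance, inferInstance, inferInstance, inferInstance,
    Module.Flat.trans A R₀ R, ⟨by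
      show p = (maximalIdeal R).comap (algebraMap A R)
      rw [IsScalarTower.algebraMap_eq A R₀ R]
      rw [← Ideal.comap_comap, IsLocalRing.maximalIdeal_comap]
      exact Localization.AtPrime.comap_maximalIdeal.symm⟩⟩

/-- The same over a reduced noetherian local ring, with a reduced noetherian result. -/
theorem exists_henselian_at_reduced {A : Type u} [CommRing A] (p : Ideal A) [p.IsPrime]
    [IsNoetherianRing (Localization.AtPrime p)] [IsReduced (Localization.AtPrime p)] :
    ∃ (R : Type u) (_ : CommRing R) (_ : HenselianLocalRing R) (_ : Algebra A R),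
      Module.Flat A R ∧ (maximalIdeal R).LiesOver p ∧ IsNoetherianRing R ∧ IsReduced R := by
  let R₀ := Localization.AtPrime p
  obtain ⟨hloc, hH⟩ := Groth.Agent.Hensel.exists_henselization R₀
  let R := Hensel.Env R₀ (IsLocalRing.ResidueField R₀)
  haveI := hloc
  haveI := hH
  haveI : HenselianLocalRing R := hH.1
  haveI : Module.Flat R₀ R := Groth.Agent.Hensel.henselization_flat (R := R₀) (S := R)
  haveI : IsNoetherianRing R := Groth.Agent.Hensel.isNoetherianRing_env R₀ _
  haveI : IsReduced R := Groth.Agent.Hensel.isReduced_env R₀ _
  exact ⟨R, inferInstance, inferInstance, inferInstance,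
    Module.Flat.trans A R₀ R, ⟨by
      show p = (maximalIdeal R).comap (algebraMap A R)
      rw [IsScalarTower.algebraMap_eq A R₀ R]
      rw [← Ideal.comap_comap, IsLocalRing.maximalIdeal_comap]
      exact Localization.AtPrime.comap_maximalIdeal.symm⟩, inferInstance, inferInstance⟩

end Groth.Agent.FlatDom
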