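import Mathlib

/-!
Injectivity of base changes of sections along flat morphisms.
-/

set_option autoImplicit false
set_option linter.style.haveILetI false
set_option backward.isDefEq.respectTransparency false

universe u

open CategoryTheory CategoryTheory.Limits AlgebraicGeometry TensorProduct

namespace Groth.Agent.FlatDom

/-- After a flat base change killing the kernel, the base change of a ring map is injective. -/
theorem inr_injective_of_flat {R S T : CommRingCat.{u}} (f : R ⟶ S) (g : R ⟶ T) (hg : g.hom.Flat)
    (hk : ∀ k : R, f k = 0 → g k = 0) : Function.Injective (pushout.inr f g) := by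
  algebraize [f.hom, g.hom]
  have h : _ = pushout.inr f g := (CommRingCat.isPushout_tensorProduct R S T).inr_isoPushout_hom
  rw [← h]
  refine (CommRingCat.isPushout_tensorProduct R S T).isoPushout.commRingCatIsoToRingEquiv.injective.comp ?_
  let φ : (R : Type u) →ₗ[R] S := Algebra.linearMap R S
  have hex : Function.Exact (LinearMap.ker φ).subtype φ := LinearMap.exact_subtype_ker_map φ
  rw [injective_iff_map_eq_zero]
  intro z hz
  have h1 : φ.rTensor T (1 ⊗ₜ[R] z) = 0 := by
    rw [LinearMap.rTensor_tmul, Algebra.linearMap_apply, map_one]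
    exact hz
  obtain ⟨w, hw⟩ := ((Module.Flat.rTensor_exact T hex) _).1 h1
  have h2 : TensorProduct.lid R T ((LinearMap.ker φ).subtype.rTensor T w) = 0 := by
    clear hw
    induction w using TensorProduct.induction_on with
    | zero => simp
    | add x y hx hy => simp only [map_add, hx, hy, add_zero]
    | tmul k t =>
      rw [LinearMap.rTensor_tmul, TensorProduct.lid_tmul, Algebra.smul_def]
      have : algebraMap R T k.1 = 0 := hk k.1 k.2
      rw [Submodule.subtype_apply, this, zero_mul]
  rw [hw, TensorProduct.lid_tmul, one_smul] at h2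
  exact h2

/-- Sections of a flat affine base change of a quasi-compact morphism. -/
theorem appTop_injective_of_flat {X Y S : Scheme.{u}} [IsAffine S] [IsAffine Y] (f : X ⟶ S) (g : Y ⟶ S)
    [QuasiCompact f] [Flat g] (hk : ∀ k, f.appTop k = 0 → g.appTop k = 0) :
    Function.Injective (pullback.snd f g).appTop := by
  rw [injective_iff_map_eq_zero]
  intro x hx
  have hS : IsAffineOpen (⊤ : S.Opens) := isAffineOpen_top S
  have hY : IsAffineOpen (⊤ : Y.Opens) := isAffineOpen_top Y
  have := mono_pushoutSection_of_isCompact_of_flat_right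
    (IsPullback.of_hasPullback f g) (US := ⊤) (UT := ⊤) (UX := f ⁻¹ᵁ ⊤) (UY := pullback.snd f g ⁻¹ᵁ ⊤)
    le_top le_rfl (by simp) hS hY (f.isCompact_preimage hS.isCompact)
  rw [@ConcreteCategory.mono_iff_injective_of_preservesPullback] at this
  refine (injective_iff_map_eq_zero _).1 (inr_injective_of_flat (f.appLE ⊤ (f ⁻¹ᵁ ⊤) le_rfl)
    (g.appLE ⊤ ⊤ le_top) (g.flat_appLE hS hY le_top) ?_) x ?_
  · intro k hk'
    have h1 : g.appLE ⊤ ⊤ le_top = g.appTop := Scheme.Hom.appLE_eq_app _
    rw [h1]
    refine hk k ?_
    rw [Scheme.Hom.appLE_eq_app] at hk'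
    exact hk'
  apply this
  have h2 : (pullback.snd f g).appLE ⊤ ⊤ le_top = (pullback.snd f g).appTop := Scheme.Hom.appLE_eq_app _
  rw [map_zero, ← CommRingCat.comp_apply]
  unfold pushoutSection
  rw [pushout.inr_desc]
  exact (congr($(h2).hom x)).trans hx

end Groth.Agent.FlatDom
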