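import Mathlib
import Groth.Agent.RG.Dev.CorepTop
import Groth.Agent.Hensel.HenselizationProps
import Groth.Agent.FlatDom.Inj
import Groth.Agent.FlatDom.Hens

/-!
Flatness detected by a universally closed schematically dominant family (EGA IV 11.5.2, 11.6).
-/

set_option autoImplicit false
set_option linter.style.haveILetI false
set_option backward.isDefEq.respectTransparency false

universe u

open CategoryTheory CategoryTheory.Limits AlgebraicGeometry TensorProduct IsLocalRing
open Groth.Agent.RG.Dev.Corep

namespace Groth.Agent.FlatDom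

theorem flat_of_tensor_faithfullyFlat {A B C N : Type u} [CommRing A] [CommRing B] [CommRing C] [Algebra A B]
    [Algebra B C] [Module.FaithfullyFlat B C] [AddCommGroup N] [Module B N] [Module A N] [IsScalarTower A B N]
    [Algebra A C] [IsScalarTower A B C] [Module.Flat A (C ⊗[B] N)] : Module.Flat A N := by
  rw [Module.Flat.iff_lTensor_preserves_injective_linearMap]
  intro X Y _ _ _ _ g hg
  have h1 : Function.Injective (g.lTensor (C ⊗[B] N)) :=
    Module.Flat.lTensor_preserves_injective_linearMap g hg
  let eX := AlgebraTensorModule.assoc A B B C N X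
  let eY := AlgebraTensorModule.assoc A B B C N Y
  let gN : N ⊗[A] X →ₗ[B] N ⊗[A] Y := AlgebraTensorModule.lTensor B N g
  have hcomm : ∀ z, eY (g.lTensor (C ⊗[B] N) z) = gN.lTensor C (eX z) := by
    intro z
    induction z using TensorProduct.induction_on with
    | zero => simp
    | add a b ha hb => simp only [map_add, ha, hb]
    | tmul cn x =>
      induction cn using TensorProduct.induction_on with
      | zero => simp
      | add a b ha hb => simp only [add_tmul, map_add, ha, hb]
      | tmul c n => simp [eX, eY, gN]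
  have h2 : Function.Injective (gN.lTensor C) := by
    intro a b hab
    obtain ⟨a, rfl⟩ := eX.surjective a
    obtain ⟨b, rfl⟩ := eX.surjective b
    rw [← hcomm, ← hcomm] at hab
    rw [h1 (eY.injective hab)]
  exact (Module.FaithfullyFlat.lTensor_injective_iff_injective B C gN).1 h2

/-- Universally closed morphisms stay closed along composites of base changes. -/
theorem isClosedMap_pullback_snd {X S S₁ S₂ : Scheme.{u}} (π : X ⟶ S) (g₁ : S₁ ⟶ S) (g₂ : S₂ ⟶ S₁)
    [UniversallyClosed (pullback.snd π g₁)] (g : S₂ ⟶ S) (hg : g₂ ≫ g₁ = g) :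
    IsClosedMap (pullback.snd π g).base := by
  subst hg
  haveI : UniversallyClosed (pullback.snd π (g₂ ≫ g₁)) := by
    rw [show pullback.snd π (g₂ ≫ g₁) =
      (pullbackLeftPullbackSndIso π g₁ g₂).inv ≫ pullback.snd (pullback.snd π g₁) g₂ from
      (pullbackLeftPullbackSndIso_inv_snd_snd π g₁ g₂).symm]
    infer_instance
  exact (pullback.snd π (g₂ ≫ g₁)).isClosedMap

/-- The morphism from the local scheme of a point to a local affine base. -/
theorem fromSpecStalk_comp_eq {Y : Scheme.{u}} {A : CommRingCat.{u}} (p : Y ⟶ Spec A) (y : Y) :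
    Y.fromSpecStalk y ≫ p =
      Spec.map ((Scheme.ΓSpecIso A).inv ≫ p.appTop ≫ Y.presheaf.germ ⊤ y trivial) := by
  apply ext_of_isAffine
  rw [Scheme.Hom.comp_appTop, Scheme.fromSpecStalk_appTop, ← Category.assoc, ← Category.assoc]
  rw [← cancel_mono (Scheme.ΓSpecIso (Y.presheaf.stalk y)).hom]
  simp

/-- Sections of the base change to a flat local algebra over the prime. -/
theorem appTop_injective_of_local {A Ah : Type u} [CommRing A] [CommRing Ah] [IsLocalRing Ah] [Algebra A Ah]
    [Module.Flat A Ah] (p : Ideal A) [hover : (maximalIdeal Ah).LiesOver p] {Y' : Scheme.{u}}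
    (π : Y' ⟶ Spec (CommRingCat.of A)) [QuasiCompact π]
    (hinj : ∀ a : A, π.appTop ((Scheme.ΓSpecIso (CommRingCat.of A)).inv a) = 0 → ∃ s ∉ p, s * a = 0) :
    Function.Injective (pullback.snd π (Spec.map (CommRingCat.ofHom (algebraMap A Ah)))).appTop := by
  haveI : Flat (Spec.map (CommRingCat.ofHom (algebraMap A Ah))) := by
    rw [HasRingHomProperty.Spec_iff (P := @Flat), CommRingCat.hom_ofHom, RingHom.flat_algebraMap_iff]
    infer_instance
  refine appTop_injective_of_flat π (Spec.map (CommRingCat.ofHom (algebraMap A Ah))) fun k hk => ?_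
  let eA := Scheme.ΓSpecIso (CommRingCat.of A)
  have hk' : π.appTop (eA.inv (eA.hom k)) = 0 := by
    rwa [Iso.hom_inv_id_apply]
  obtain ⟨t, ht, htk⟩ := hinj _ hk'
  have hu : IsUnit (algebraMap A Ah t) := by
    rw [← IsLocalRing.notMem_maximalIdeal]
    exact fun hm => ht ((SetLike.ext_iff.1 hover.over t).2 hm)
  have h0 : algebraMap A Ah (eA.hom k) = 0 := by
    have := congrArg (algebraMap A Ah) htk
    rw [map_mul, map_zero] at this
    exact hu.mul_right_eq_zero.1 this
  apply (Scheme.ΓSpecIso (CommRingCat.of Ah)).commRingCatIsoToRingEquiv.injective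
  rw [map_zero]
  exact (congr($(Scheme.ΓSpecIso_naturality (CommRingCat.ofHom (algebraMap A Ah))).hom k)).trans h0

/-- An ideal cutting out flatness vanishes if the flatness holds along a closed family with injective sections. -/
theorem eq_bot_of_family {Ah T : Type u} [CommRing Ah] [IsLocalRing Ah] [CommRing T] [Algebra Ah T]
    (Nh : Type u) [AddCommGroup Nh] [Module T Nh] (P : Ideal T) (I : Ideal Ah) (hI : CorepT Ah T P Nh I)
    {Yh : Scheme.{u}} (ph : Yh ⟶ Spec (CommRingCat.of Ah)) (hclosed : IsClosedMap ph.base)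
    (hker : Function.Injective ph.appTop)
    (h : ∀ (R' : Type u) [CommRing R'] [IsLocalRing R'] [Algebra Ah R'] [IsLocalHom (algebraMap Ah R')]
      (r : Spec (CommRingCat.of R') ⟶ Yh), r ≫ ph = Spec.map (CommRingCat.ofHom (algebraMap Ah R')) →
      ∀ (T' : Type u) [CommRing T'] [Algebra R' T'] [Algebra T T'] [Algebra Ah T'] [IsScalarTower Ah R' T']
        [IsScalarTower Ah T T'] [Algebra.IsPushout Ah R' T T'], PtsFlat R' T' P (T' ⊗[T] Nh)) : I = ⊥ := by
  classical
  rw [eq_bot_iff]
  intro a ha
  refine (Submodule.mem_bot Ah).2 ?_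
  let eh := Scheme.ΓSpecIso (CommRingCat.of Ah)
  have hgerm : ∀ w : Yh, ph w = closedPoint Ah →
      Yh.presheaf.germ ⊤ w trivial (ph.appTop (eh.inv a)) = 0 := by
    intro w hw
    let R' : Type u := Yh.presheaf.stalk w
    let φ : CommRingCat.of Ah ⟶ Yh.presheaf.stalk w := eh.inv ≫ ph.appTop ≫ Yh.presheaf.germ ⊤ w trivial
    letI : Algebra Ah R' := φ.hom.toAlgebra
    have hcomp : Yh.fromSpecStalk w ≫ ph = Spec.map φ := fromSpecStalk_comp_eq ph w
    haveI : IsLocalHom (algebraMap Ah R') := by
      refine ((IsLocalRing.local_hom_TFAE (algebraMap Ah R')).out 0 4).2 ?_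
      have h1 : (Spec.map φ) (closedPoint R') = closedPoint Ah := by
        rw [← hcomp, Scheme.Hom.comp_apply]
        exact (congrArg _ Scheme.fromSpecStalk_closedPoint).trans hw
      exact congrArg PrimeSpectrum.asIdeal h1
    obtain ⟨T', _, _, _, _, _, _, hpo'⟩ := exists_bc Ah R' T
    haveI := hpo'
    have h2 := (hI R' T').1 (h R' (Yh.fromSpecStalk w) (hcomp.trans rfl) T')
    exact (Submodule.mem_bot R').1 (h2 ▸ Ideal.mem_map_of_mem (algebraMap Ah R') ha)
  have hall : ∀ w : Yh, Yh.presheaf.germ ⊤ w trivial (ph.appTop (eh.inv a)) = 0 := by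
    intro w
    by_contra hw
    let Z : Set Yh := {z | Yh.presheaf.germ ⊤ z trivial (ph.appTop (eh.inv a)) ≠ 0}
    have hZ : IsClosed Z := by
      rw [← isOpen_compl_iff, isOpen_iff_forall_mem_open]
      intro z hz
      simp only [Z, Set.mem_compl_iff, Set.mem_setOf_eq, ne_eq, not_not] at hz
      obtain ⟨W, hzW, i₁, i₂, hW⟩ := Yh.presheaf.germ_eq (U := ⊤) (V := ⊤) z trivial trivial _ 0 (hz.trans (map_zero _).symm)
      refine ⟨W, fun v hv => ?_, W.isOpen, hzW⟩
      simp only [Z, Set.mem_compl_iff, Set.mem_setOf_eq, ne_eq, not_not]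
      rw [← TopCat.Presheaf.germ_res_apply Yh.presheaf i₁ v hv, hW, map_zero, map_zero]
    have h1 : closedPoint Ah ∈ ph.base '' Z :=
      ((PrimeSpectrum.le_iff_specializes (ph w) _).1 (IsLocalRing.le_maximalIdeal (ph w).isPrime.ne_top)).mem_closed
        (hclosed _ hZ) ⟨w, hw, rfl⟩
    obtain ⟨z, hz, hzc⟩ := h1
    exact hz (hgerm z hzc)
  have h3 : ph.appTop (eh.inv a) = 0 :=
    TopCat.Presheaf.section_ext Yh.sheaf ⊤ _ 0 fun w hw => (hall w).trans (map_zero _).symm
  have h4 : eh.inv a = 0 := hker (h3.trans (map_zero _).symm)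
  exact eh.symm.commRingCatIsoToRingEquiv.injective (h4.trans (map_zero _).symm)

/-- Hypothesis transfer to the base change. -/
theorem ptsFlat_step {A B Ah T R' : Type u} [CommRing A] [CommRing B] [Algebra A B] [CommRing Ah] [IsLocalRing Ah]
    [Algebra A Ah] [CommRing T] [Algebra Ah T] [Algebra B T] [Algebra A T] [IsScalarTower A Ah T] [IsScalarTower A B T]
    [Algebra.IsPushout A Ah B T] (p : Ideal A) [hover : (maximalIdeal Ah).LiesOver p] (q : Ideal B) {Y' : Scheme.{u}}
    (π : Y' ⟶ Spec (CommRingCat.of A)) (N : Type u) [AddCommGroup N] [Module B N]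
    (h : ∀ (R : Type u) [CommRing R] [IsLocalRing R] [Algebra A R] (r : Spec (CommRingCat.of R) ⟶ Y'),
      r ≫ π = Spec.map (CommRingCat.ofHom (algebraMap A R)) → (maximalIdeal R).comap (algebraMap A R) = p →
      ∀ (T : Type u) [CommRing T] [Algebra R T] [Algebra B T] [Algebra A T] [IsScalarTower A R T] [IsScalarTower A B T]
        [Algebra.IsPushout A R B T], PtsFlat R T q (T ⊗[B] N))
    (P : Ideal T) (hPq : P.comap (algebraMap B T) = q)
    [CommRing R'] [IsLocalRing R'] [Algebra Ah R'] [IsLocalHom (algebraMap Ah R')]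
    (r : Spec (CommRingCat.of R') ⟶ pullback π (Spec.map (CommRingCat.ofHom (algebraMap A Ah))))
    (hr : r ≫ pullback.snd _ _ = Spec.map (CommRingCat.ofHom (algebraMap Ah R')))
    (T' : Type u) [CommRing T'] [Algebra R' T'] [Algebra T T'] [Algebra Ah T'] [IsScalarTower Ah R' T']
    [IsScalarTower Ah T T'] [Algebra.IsPushout Ah R' T T'] :
    PtsFlat R' T' P (T' ⊗[T] (T ⊗[B] N)) := by
  letI : Algebra A R' := ((algebraMap Ah R').comp (algebraMap A Ah)).toAlgebra
  haveI : IsScalarTower A Ah R' := IsScalarTower.of_algebraMap_eq fun _ => rfl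
  letI : Algebra B T' := ((algebraMap T T').comp (algebraMap B T)).toAlgebra
  haveI : IsScalarTower B T T' := IsScalarTower.of_algebraMap_eq fun _ => rfl
  letI : Algebra A T' := ((algebraMap B T').comp (algebraMap A B)).toAlgebra
  haveI : IsScalarTower A B T' := IsScalarTower.of_algebraMap_eq fun _ => rfl
  haveI : IsScalarTower A Ah T' := IsScalarTower.of_algebraMap_eq fun x => by
    show algebraMap T T' (algebraMap B T (algebraMap A B x)) = _
    rw [← IsScalarTower.algebraMap_apply A B T, IsScalarTower.algebraMap_apply A Ah T,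
      ← IsScalarTower.algebraMap_apply Ah T T']
  haveI : IsScalarTower A R' T' := IsScalarTower.of_algebraMap_eq fun x => by
    rw [IsScalarTower.algebraMap_apply A Ah T', IsScalarTower.algebraMap_apply Ah R' T',
      IsScalarTower.algebraMap_apply A Ah R']
  haveI : IsScalarTower A T T' := IsScalarTower.of_algebraMap_eq fun x => by
    rw [IsScalarTower.algebraMap_apply A B T', IsScalarTower.algebraMap_apply A B T]; rfl
  haveI : Algebra.IsPushout A R' B T' :=
    (Algebra.IsPushout.comp_iff (R := A) (S := Ah) (R' := B) (S' := T) (T := R') (T' := T')).2 inferInstance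
  have hpts : PtsFlat R' T' q (T' ⊗[B] N) := by
    refine h R' (r ≫ pullback.fst _ _) ?_ ?_ T'
    · rw [Category.assoc, pullback.condition, ← Category.assoc, hr, ← Spec.map_comp]
      rfl
    · rw [IsScalarTower.algebraMap_eq A Ah R', ← Ideal.comap_comap,
        IsLocalRing.maximalIdeal_comap (algebraMap Ah R')]
      exact hover.over.symm
  refine ptsFlat_congr (AlgebraTensorModule.cancelBaseChange B T T' T' N).symm ?_
  intro Q _ hQP hQm
  exact hpts Q (by rw [IsScalarTower.algebraMap_eq B T T', ← Ideal.comap_comap, hQP, hPq]) hQm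

/-- Flatness at a point over a henselian flat local algebra, from the vanishing of the flattening ideals. -/
theorem flat_at_of_henselian_key {A B : Type u} [CommRing A] [CommRing B] [Algebra A B] [Algebra.FinitePresentation A B]
    (N : Type u) [AddCommGroup N] [Module B N] [Module A N] [IsScalarTower A B N] [Module.FinitePresentation B N]
    (p : Ideal A) [p.IsPrime] (q : Ideal B) [q.IsPrime] [q.LiesOver p] (Ah : Type u) [CommRing Ah]
    [HenselianLocalRing Ah] [Algebra A Ah] [Module.Flat A Ah] [hover : (maximalIdeal Ah).LiesOver p]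
    (hkey : ∀ (T : Type u) [CommRing T] [Algebra Ah T] [Algebra B T] [Algebra A T] [IsScalarTower A Ah T]
      [IsScalarTower A B T] [Algebra.IsPushout A Ah B T] (P : Ideal T) [P.IsPrime], P.comap (algebraMap B T) = q →
      P.comap (algebraMap Ah T) = maximalIdeal Ah → ∀ I : Ideal Ah, I.FG → CorepT Ah T P (T ⊗[B] N) I → I = ⊥) :
    Module.Flat A (LocalizedModule q.primeCompl N) := by
  classical
  obtain ⟨T, _, _, _, _, _, _, hpo⟩ := exists_bc A Ah B
  haveI := hpo
  haveI : Algebra.IsPushout A B Ah T := Algebra.IsPushout.symm inferInstance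
  obtain ⟨s, hs, hsq, hsm⟩ := Groth.Agent.RG.Pure.exists_prime_both p q (maximalIdeal Ah)
  haveI := hs
  let e := Algebra.IsPushout.equiv A B Ah T
  let P : Ideal T := Ideal.comap (e.symm : T →+* B ⊗[A] Ah) s
  haveI : P.IsPrime := Ideal.IsPrime.comap _
  have hPq : P.comap (algebraMap B T) = q := by
    rw [← hsq, Ideal.comap_comap]
    congr 1
    exact RingHom.ext fun b => e.symm.commutes b
  have hPm : P.comap (algebraMap Ah T) = maximalIdeal Ah := by
    rw [← hsm, Ideal.comap_comap]
    congr 1
    ext r
    exact Algebra.IsPushout.equiv_symm_algebraMap_right A B Ah T r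
  haveI : P.LiesOver (maximalIdeal Ah) := ⟨hPm.symm⟩
  haveI : P.LiesOver q := ⟨hPq.symm⟩
  haveI : Algebra.FinitePresentation Ah T :=
    Algebra.FinitePresentation.equiv (Algebra.IsPushout.equiv A Ah B T)
  let Nh := T ⊗[B] N
  haveI : IsScalarTower A Ah Nh := IsScalarTower.of_algebraMap_smul fun a x => by
    rw [← IsScalarTower.algebraMap_smul T (algebraMap A Ah a) x, ← IsScalarTower.algebraMap_apply A Ah T,
      algebraMap_smul]
  haveI : Module.Flat Ah (LocalizedModule P.primeCompl Nh) := by
    by_cases hsupp : (⟨P, ‹_›⟩ : PrimeSpectrum T) ∈ Module.support T Nh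
    swap
    · haveI : Subsingleton (LocalizedModule P.primeCompl Nh) := LocalizedModule.subsingleton_iff.2 fun n => by
        obtain ⟨r, hr, hrn⟩ := Module.notMem_support_iff'.1 hsupp n
        exact ⟨r, hr, hrn⟩
      infer_instance
    obtain ⟨I, hI, hIfg⟩ := exists_corep_model (A := Ah) Nh P hsupp
    have hfg : I.FG := hIfg inferInstance inferInstance
    suffices hbot : I = ⊥ by
      haveI : IsLocalHom (algebraMap Ah Ah) := ⟨fun a ha => ha⟩
      haveI : Algebra.IsPushout Ah Ah T T := ⟨by
        convert IsBaseChange.ofEquiv (LinearEquiv.refl Ah T)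
        ext x; simp⟩
      haveI := (hI Ah T).2 (by rw [hbot]; exact Ideal.map_bot) P (Ideal.comap_id P) hPm
      haveI : IsLocalizedModule P.primeCompl
          ((LocalizedModule.mkLinearMap P.primeCompl (T ⊗[T] Nh)) ∘ₗ (TensorProduct.lid T Nh).symm.toLinearMap) :=
        IsLocalizedModule.of_linearEquiv_right _ _ _
      exact Module.Flat.of_linearEquiv ((IsLocalizedModule.iso P.primeCompl
        ((LocalizedModule.mkLinearMap P.primeCompl (T ⊗[T] Nh)) ∘ₗ (TensorProduct.lid T Nh).symm.toLinearMap)).restrictScalars Ah)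
    exact hkey T P hPq hPm I hfg hI
  haveI : Module.Flat A (LocalizedModule P.primeCompl Nh) := Module.Flat.trans A Ah _
  -- descend along the local faithfully flat homomorphism
  haveI : Module.Flat B T := Module.Flat.isBaseChange A B Ah T (Algebra.IsPushout.out (S := B))
  let Bq := Localization.AtPrime q
  let TP := Localization.AtPrime P
  letI : Algebra Bq TP := Localization.AtPrime.algebraOfLiesOver q P
  haveI : Module.Flat Bq TP := by
    haveI : Module.Flat B TP := Module.Flat.trans B T TP
    exact (Module.flat_iff_of_isLocalization Bq q.primeCompl TP).2 inferInstance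
  haveI : IsLocalHom (algebraMap Bq TP) := Localization.isLocalHom_localRingHom q P _ (Ideal.over_def P q)
  haveI : Module.FaithfullyFlat Bq TP := Module.FaithfullyFlat.of_flat_of_isLocalHom
  let Nq := LocalizedModule q.primeCompl N
  haveI : IsScalarTower A Bq TP := IsScalarTower.to₁₃₄ A B Bq TP
  haveI : Module.Flat A (TP ⊗[Bq] Nq) := by
    let e₁ : TP ⊗[Bq] Nq ≃ₗ[TP] TP ⊗[B] N :=
      (AlgebraTensorModule.congr (LinearEquiv.refl TP TP) (IsLocalizedModule.isBaseChange q.primeCompl Bq
        (LocalizedModule.mkLinearMap q.primeCompl N)).equiv.symm).trans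
        (AlgebraTensorModule.cancelBaseChange B Bq TP TP N)
    let e₂ : LocalizedModule P.primeCompl Nh ≃ₗ[TP] TP ⊗[B] N :=
      (IsLocalizedModule.isBaseChange P.primeCompl TP (LocalizedModule.mkLinearMap P.primeCompl Nh)).equiv.symm.trans
        (AlgebraTensorModule.cancelBaseChange B T TP TP N)
    exact Module.Flat.of_linearEquiv ((e₁.trans e₂.symm).restrictScalars A)
  exact flat_of_tensor_faithfullyFlat (B := Bq) (C := TP) (N := Nq)



/-- Flatness at a point over a henselian flat local algebra. -/
theorem flat_at_of_family_henselian {A B : Type u} [CommRing A] [CommRing B] [Algebra A B] [Algebra.FinitePresentation A B]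
    (N : Type u) [AddCommGroup N] [Module B N] [Module A N] [IsScalarTower A B N] [Module.FinitePresentation B N]
    (p : Ideal A) [p.IsPrime] (q : Ideal B) [q.IsPrime] [q.LiesOver p] (Ah : Type u) [CommRing Ah]
    [HenselianLocalRing Ah] [Algebra A Ah] [Module.Flat A Ah] [hover : (maximalIdeal Ah).LiesOver p] {Y' : Scheme.{u}}
    (π : Y' ⟶ Spec (CommRingCat.of A)) [QuasiCompact π]
    (hclosed : IsClosedMap (pullback.snd π (Spec.map (CommRingCat.ofHom (algebraMap A Ah)))).base)
    (hinj : ∀ a : A, π.appTop ((Scheme.ΓSpecIso (CommRingCat.of A)).inv a) = 0 → ∃ s ∉ p, s * a = 0)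
    (h : ∀ (R : Type u) [CommRing R] [IsLocalRing R] [Algebra A R] (r : Spec (CommRingCat.of R) ⟶ Y'),
      r ≫ π = Spec.map (CommRingCat.ofHom (algebraMap A R)) → (maximalIdeal R).comap (algebraMap A R) = p →
      ∀ (T : Type u) [CommRing T] [Algebra R T] [Algebra B T] [Algebra A T] [IsScalarTower A R T] [IsScalarTower A B T]
        [Algebra.IsPushout A R B T], PtsFlat R T q (T ⊗[B] N)) :
    Module.Flat A (LocalizedModule q.primeCompl N) := by
  refine flat_at_of_henselian_key N p q Ah ?_
  intro T _ _ _ _ _ _ _ P _ hPq _ I _ hI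
  refine eq_bot_of_family (T ⊗[B] N) P I hI (pullback.snd π (Spec.map (CommRingCat.ofHom (algebraMap A Ah))))
    hclosed (appTop_injective_of_local p π hinj) ?_
  intro R' _ _ _ _ r hr T' _ _ _ _ _ _ _
  exact ptsFlat_step p q π N h P hPq r hr T'

/-- A test algebra over which the module is flat at the points kills the flattening ideal. -/
theorem map_eq_bot_of_ptsFlat {A B : Type u} [CommRing A] [CommRing B] [Algebra A B]
    {Ah : Type u} [CommRing Ah] [IsLocalRing Ah] [Algebra A Ah] {T : Type u} [CommRing T] [Algebra Ah T] [Algebra B T]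
    [Algebra A T] [IsScalarTower A Ah T] [IsScalarTower A B T] [Algebra.IsPushout A Ah B T] (N : Type u)
    [AddCommGroup N] [Module B N] (q : Ideal B) (P : Ideal T) (hPq : P.comap (algebraMap B T) = q) (I : Ideal Ah)
    (hI : CorepT Ah T P (T ⊗[B] N) I)
    (R' : Type u) [CommRing R'] [IsLocalRing R'] [Algebra A R'] [Algebra Ah R'] [IsScalarTower A Ah R']
    [IsLocalHom (algebraMap Ah R')]
    (h : ∀ (T : Type u) [CommRing T] [Algebra R' T] [Algebra B T] [Algebra A T] [IsScalarTower A R' T]
      [IsScalarTower A B T] [Algebra.IsPushout A R' B T], PtsFlat R' T q (T ⊗[B] N)) :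
    I.map (algebraMap Ah R') = ⊥ := by
  obtain ⟨T', _, _, _, _, _, _, hpo'⟩ := exists_bc Ah R' T
  haveI := hpo'
  letI : Algebra B T' := ((algebraMap T T').comp (algebraMap B T)).toAlgebra
  haveI : IsScalarTower B T T' := IsScalarTower.of_algebraMap_eq fun _ => rfl
  letI : Algebra A T' := ((algebraMap B T').comp (algebraMap A B)).toAlgebra
  haveI : IsScalarTower A B T' := IsScalarTower.of_algebraMap_eq fun _ => rfl
  haveI : IsScalarTower A Ah T' := IsScalarTower.of_algebraMap_eq fun x => by
    show algebraMap T T' (algebraMap B T (algebraMap A B x)) = _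
    rw [← IsScalarTower.algebraMap_apply A B T, IsScalarTower.algebraMap_apply A Ah T,
      ← IsScalarTower.algebraMap_apply Ah T T']
  haveI : IsScalarTower A R' T' := IsScalarTower.of_algebraMap_eq fun x => by
    rw [IsScalarTower.algebraMap_apply A Ah T', IsScalarTower.algebraMap_apply Ah R' T',
      IsScalarTower.algebraMap_apply A Ah R']
  haveI : IsScalarTower A T T' := IsScalarTower.of_algebraMap_eq fun x => by
    rw [IsScalarTower.algebraMap_apply A B T', IsScalarTower.algebraMap_apply A B T]; rfl
  haveI : Algebra.IsPushout A R' B T' :=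
    (Algebra.IsPushout.comp_iff (R := A) (S := Ah) (R' := B) (S' := T) (T := R') (T' := T')).2 inferInstance
  have hpts' : PtsFlat R' T' P (T' ⊗[T] (T ⊗[B] N)) := by
    refine ptsFlat_congr (AlgebraTensorModule.cancelBaseChange B T T' T' N).symm ?_
    intro Q _ hQP hQm
    exact h T' Q (by rw [IsScalarTower.algebraMap_eq B T T', ← Ideal.comap_comap, hQP, hPq]) hQm
  have h2 := (hI R' T').1 hpts'
  exact h2

/-- Flatness at a point from a local test algebra into which a henselian flat local algebra injects. -/
theorem flat_at_of_injective_local {A B : Type u} [CommRing A] [CommRing B] [Algebra A B] [Algebra.FinitePresentation A B]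
    (N : Type u) [AddCommGroup N] [Module B N] [Module A N] [IsScalarTower A B N] [Module.FinitePresentation B N]
    (p : Ideal A) [p.IsPrime] (q : Ideal B) [q.IsPrime] [q.LiesOver p] (Ah : Type u) [CommRing Ah]
    [HenselianLocalRing Ah] [Algebra A Ah] [Module.Flat A Ah] [hover : (maximalIdeal Ah).LiesOver p]
    (R' : Type u) [CommRing R'] [IsLocalRing R'] [Algebra A R'] [Algebra Ah R'] [IsScalarTower A Ah R']
    [IsLocalHom (algebraMap Ah R')] (hinj : Function.Injective (algebraMap Ah R'))
    (h : ∀ (T : Type u) [CommRing T] [Algebra R' T] [Algebra B T] [Algebra A T] [IsScalarTower A R' T]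
      [IsScalarTower A B T] [Algebra.IsPushout A R' B T], PtsFlat R' T q (T ⊗[B] N)) :
    Module.Flat A (LocalizedModule q.primeCompl N) := by
  refine flat_at_of_henselian_key N p q Ah ?_
  intro T _ _ _ _ _ _ _ P _ hPq _ I _ hI
  exact (Ideal.map_eq_bot_iff_of_injective hinj).1 (map_eq_bot_of_ptsFlat N q P hPq I hI R' h)

/-- Flatness at a point from flatness after base change to a universally closed family which is schematically dominant
at the point of the base. -/
theorem flat_at_of_family {A B : Type u} [CommRing A] [CommRing B] [Algebra A B] [Algebra.FinitePresentation A B]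
    (N : Type u) [AddCommGroup N] [Module B N] [Module A N] [IsScalarTower A B N] [Module.FinitePresentation B N]
    (p : Ideal A) [p.IsPrime] (q : Ideal B) [q.IsPrime] [q.LiesOver p] {Y' : Scheme.{u}}
    (π : Y' ⟶ Spec (CommRingCat.of A)) [QuasiCompact π]
    [UniversallyClosed (pullback.snd π (Spec.map (CommRingCat.ofHom (algebraMap A (Localization.AtPrime p)))))]
    (hinj : ∀ a : A, π.appTop ((Scheme.ΓSpecIso (CommRingCat.of A)).inv a) = 0 → ∃ s ∉ p, s * a = 0)
    (h : ∀ (R : Type u) [CommRing R] [IsLocalRing R] [Algebra A R] (r : Spec (CommRingCat.of R) ⟶ Y'),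
      r ≫ π = Spec.map (CommRingCat.ofHom (algebraMap A R)) → (maximalIdeal R).comap (algebraMap A R) = p →
      ∀ (T : Type u) [CommRing T] [Algebra R T] [Algebra B T] [Algebra A T] [IsScalarTower A R T] [IsScalarTower A B T]
        [Algebra.IsPushout A R B T], PtsFlat R T q (T ⊗[B] N)) :
    Module.Flat A (LocalizedModule q.primeCompl N) := by
  classical
  let R₀ := Localization.AtPrime p
  obtain ⟨Ah, _, _, _, _, _, hfl, hov⟩ := exists_henselian_at p
  haveI := hfl
  haveI := hov
  exact flat_at_of_family_henselian N p q Ah π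
    (isClosedMap_pullback_snd π _ (Spec.map (CommRingCat.ofHom (algebraMap R₀ Ah))) _ (by
      rw [← Spec.map_comp, ← CommRingCat.ofHom_comp, ← IsScalarTower.algebraMap_eq])) hinj h

end Groth.Agent.FlatDom
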