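import Mathlib
import Groth.Agent.FlatFam.Core

/-!
Flattening ideals die in local base changes flat at a detecting set of points (no noetherian hypothesis).
-/

universe u

namespace Groth.Agent.FlatDom

open TensorProduct IsLocalRing Groth.Agent.FlatFam

set_option linter.style.haveILetI false

/-- Quotients of the local ring at a prime have the same residue field. -/
theorem exists_residue_equiv {B : Type u} [CommRing B] {q : Ideal B} [q.IsPrime] (J : Ideal (Localization.AtPrime q))
    [IsLocalRing (Localization.AtPrime q ⧸ J)] [IsLocalHom (Ideal.Quotient.mk J)] :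
    Nonempty (ResidueField (Localization.AtPrime q ⧸ J) ≃ₗ[B] q.ResidueField) := by
  let h : q.ResidueField →+* ResidueField (Localization.AtPrime q ⧸ J) := ResidueField.map (Ideal.Quotient.mk J)
  have hb : Function.Bijective h := by
    refine ⟨h.injective, fun z => ?_⟩
    obtain ⟨z, rfl⟩ := residue_surjective z
    obtain ⟨y, rfl⟩ := Ideal.Quotient.mk_surjective z
    exact ⟨residue _ y, rfl⟩
  let hl : q.ResidueField →ₗ[B] ResidueField (Localization.AtPrime q ⧸ J) :=
    { toFun := h
      map_add' := map_add h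
      map_smul' := fun b y => by
        rw [Algebra.smul_def, map_mul, RingHom.id_apply, Algebra.smul_def]
        congr 1 }
  exact ⟨(LinearEquiv.ofBijective hl hb).symm⟩

/-- Everything is flat over the residue field. -/
theorem flat_over_residue {A : Type u} [CommRing A] (m : Ideal A) [m.IsMaximal] (N : Type u) [AddCommGroup N]
    [Module A N] : Module.Flat (A ⧸ m) ((A ⧸ m) ⊗[A] N) := by
  letI : Field (A ⧸ m) := Ideal.Quotient.field _
  exact Module.Flat.of_free

/-- A tensor dying in a larger module vanishes when the module is flat at a detecting set of points. -/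
theorem eq_zero_of_detects_tensor {A B : Type u} [CommRing A] [IsLocalRing A] [CommRing B] [Algebra A B] {q : Ideal B}
    [q.IsPrime] [q.LiesOver (maximalIdeal A)]
    [IsNoetherianRing (Localization.AtPrime q ⧸ (maximalIdeal A).map (algebraMap A (Localization.AtPrime q)))] (N : Type u)
    [AddCommGroup N] [Module A N] [Module B N] [Module (Localization.AtPrime q) N] [IsScalarTower A B N]
    [IsScalarTower B (Localization.AtPrime q) N] [IsScalarTower A (Localization.AtPrime q) N]
    [Module.Finite (Localization.AtPrime q) N]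
    (A' T : Type u) [CommRing A'] [IsLocalRing A'] [Algebra A A'] [IsLocalHom (algebraMap A A')] [CommRing T]
    [Algebra A T] [Algebra A' T] [Algebra B T] [IsScalarTower A A' T] [IsScalarTower A B T]
    [Algebra.IsPushout A A' B T] (S : Set (Ideal T))
    (hS : ∀ P ∈ S, ∃ _ : P.IsPrime, P.comap (algebraMap A' T) = maximalIdeal A' ∧
      Module.Flat A' (Localization.AtPrime P ⊗[B] N))
    (hdet : Detects A B q A' T S) {V C : Type u} [AddCommGroup V] [Module A V] [Module A' V] [IsScalarTower A A' V]
    [AddCommGroup C] [Module A C] [Module A' C] [IsScalarTower A A' C] (i : V →ₗ[A'] C) (hi : Function.Injective i)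
    (hV : ∀ a ∈ maximalIdeal A', ∀ v : V, a • v = 0) (z₀ : V ⊗[A] N)
    (hz₀ : (i.restrictScalars A).rTensor N z₀ = 0) : z₀ = 0 := by
  classical
  let m := maximalIdeal A
  have hkV : ∀ a ∈ m, ∀ x : V, a • x = 0 := fun a ha x => by
    rw [← algebraMap_smul A' a x]; exact hV _ (map_nonunit (algebraMap A A') a ha) x
  -- move to the fibre
  let P₀ := (A' ⊗[A] N)
  let eT := Algebra.IsPushout.cancelBaseChange A A' B T N
  let Γ : ∀ (X : Type u) [AddCommGroup X] [Module A X] [Module A' X] [IsScalarTower A A' X],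
      X ⊗[A] N ≃ₗ[A'] (T ⊗[B] N) ⊗[A'] X := fun X _ _ _ _ =>
    ((AlgebraTensorModule.cancelBaseChange A A' A' X N).symm.trans
      (AlgebraTensorModule.congr (LinearEquiv.refl A' X) eT.symm)).trans (TensorProduct.comm A' X (T ⊗[B] N))
  have hsqΓ : ∀ z : V ⊗[A] N, Γ C ((i.restrictScalars A).rTensor N z) =
      i.lTensor (T ⊗[B] N) (Γ V z) := by
    intro z
    induction z using TensorProduct.induction_on with
    | zero => simp
    | add a b ha hb => simp only [map_add, ha, hb]
    | tmul a n => simp [Γ, eT]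
  have hw0 : i.lTensor (T ⊗[B] N) (Γ V z₀) = 0 := by
    rw [← hsqΓ, hz₀, map_zero]
  -- pass to `N / mN`
  let Nb := N ⧸ m.map (algebraMap A (Localization.AtPrime q)) • (⊤ : Submodule (Localization.AtPrime q) N)
  let p : N →ₗ[B] Nb := (Submodule.mkQ _).restrictScalars B
  let pT : (T ⊗[B] N) ⊗[A'] V →ₗ[T] (T ⊗[B] Nb) ⊗[A'] V :=
    AlgebraTensorModule.rTensor A' V (AlgebraTensorModule.lTensor T T p)
  have hzero : pT (Γ V z₀) = 0 := by
    let U := ResidueField A' ⊗[A] B
    letI : Algebra B U := Algebra.TensorProduct.rightAlgebra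
    let fT : T →ₐ[A] U := Algebra.pushoutDesc T
      ((Algebra.TensorProduct.includeLeft).comp (IsScalarTower.toAlgHom A A' (ResidueField A')))
      Algebra.TensorProduct.includeRight fun _ _ => mul_comm _ _
    letI : Algebra T U := fT.toRingHom.toAlgebra
    haveI : IsScalarTower A' T U := IsScalarTower.of_algebraMap_eq fun a => by
      show _ = fT (algebraMap A' T a)
      rw [Algebra.pushoutDesc_left]
      rfl
    haveI : IsScalarTower B T U := IsScalarTower.of_algebraMap_eq fun b => by
      show _ = fT (algebraMap B T b)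
      rw [Algebra.pushoutDesc_right]
      rfl
    let J := m.map (algebraMap A (Localization.AtPrime q))
    have hmax : ∀ a ∈ m, algebraMap A (Localization.AtPrime q) a ∈ maximalIdeal (Localization.AtPrime q) := by
      intro a ha
      rw [IsScalarTower.algebraMap_apply A B (Localization.AtPrime q), IsLocalization.AtPrime.to_map_mem_maximal_iff _ q]
      exact (SetLike.ext_iff.1 (Ideal.over_def q m) a).1 ha
    have hJ : J ≤ maximalIdeal (Localization.AtPrime q) := Ideal.map_le_iff_le_comap.2 hmax
    haveI : Nontrivial (Localization.AtPrime q ⧸ J) := Ideal.Quotient.nontrivial_iff.2 fun ht =>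
      (maximalIdeal.isMaximal _).ne_top (top_le_iff.1 (ht ▸ hJ))
    haveI : IsLocalRing (Localization.AtPrime q ⧸ J) := IsLocalRing.of_surjective' _ Ideal.Quotient.mk_surjective
    haveI : IsLocalHom (Ideal.Quotient.mk J) := IsLocalHom.of_surjective _ Ideal.Quotient.mk_surjective
    obtain ⟨ε⟩ := exists_residue_equiv (q := q) J
    refine eq_zero_of_detect_module (A := A) (R := Localization.AtPrime q ⧸ J) (U := U) S
      (fun e he => (LinearEquiv.map_eq_zero_iff (AlgebraTensorModule.congr (LinearEquiv.refl U U) ε)).1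
        (hdet U _ fun P hP => ?_)) (fun P hP => ?_) (fun a ha => ?_) Nb (fun a ha x => ?_) V hV _ fun P hP => ?_
    · obtain ⟨t, ht, hte⟩ := he P hP
      exact ⟨t, ht, by rw [← map_smul, hte, map_zero]⟩
    · obtain ⟨hPp, hPm, -⟩ := hS P hP
      intro t ht
      exact mem_of_map_eq_zero (A := A) (A' := A') (B := B) P hPm t ht
    · rw [IsScalarTower.algebraMap_apply A (Localization.AtPrime q) (Localization.AtPrime q ⧸ J),
        Ideal.Quotient.algebraMap_eq, show Ideal.Quotient.mk J (algebraMap A (Localization.AtPrime q) a) = 0 from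
          Ideal.Quotient.eq_zero_iff_mem.2 (Ideal.mem_map_of_mem _ ha)]
      exact Submodule.zero_mem _
    · obtain ⟨x, rfl⟩ := Submodule.Quotient.mk_surjective _ x
      rw [← Submodule.Quotient.mk_smul, Submodule.Quotient.mk_eq_zero, ← algebraMap_smul (Localization.AtPrime q) a x]
      exact Submodule.smul_mem_smul (Ideal.mem_map_of_mem _ ha) Submodule.mem_top
    · obtain ⟨hPp, -, hflat⟩ := hS P hP
      haveI := hPp
      haveI := hflat
      let LP := Localization.AtPrime P
      let eP := (AlgebraTensorModule.cancelBaseChange B T LP LP N).restrictScalars T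
      haveI : IsLocalizedModule P.primeCompl
          (eP.toLinearMap ∘ₗ TensorProduct.mk T LP (T ⊗[B] N) 1) :=
        IsLocalizedModule.of_linearEquiv P.primeCompl (TensorProduct.mk T LP (T ⊗[B] N) 1) eP
      obtain ⟨s, hs, hse⟩ := exists_smul_eq_zero (P := P) (X := T ⊗[B] N) (Y := LP ⊗[B] N)
        i hi (eP.toLinearMap ∘ₗ TensorProduct.mk T LP (T ⊗[B] N) 1) _ hw0
      exact ⟨s, hs, by rw [← map_smul, hse, map_zero]⟩
  -- `pT` is injective
  let back : V ⊗[A] N ≃ₗ[A'] (T ⊗[B] N) ⊗[A'] V := Γ V
  let eNb := Algebra.IsPushout.cancelBaseChange A A' B T Nb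
  have hsqp : ∀ z : V ⊗[A] N, pT (Γ V z) =
      ((AlgebraTensorModule.cancelBaseChange A A' A' V Nb).symm.trans
        ((AlgebraTensorModule.congr (LinearEquiv.refl A' V) eNb.symm).trans (TensorProduct.comm A' V (T ⊗[B] Nb))))
        ((p.restrictScalars A).lTensor V z) := by
    intro z
    induction z using TensorProduct.induction_on with
    | zero => simp
    | add a b ha hb => simp only [map_add, ha, hb]
    | tmul a n => simp [Γ, eT, eNb, pT]
  rw [hsqp, LinearEquiv.map_eq_zero_iff] at hzero
  exact tmul_eq_zero_of_mkQ (L := Localization.AtPrime q) m hkV _ hzero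

/-- Flatness modulo the image of `I` after passing to a quotient. -/
theorem flat_quotient_sup {A : Type u} [CommRing A] (I K : Ideal A) (N : Type u) [AddCommGroup N] [Module A N]
    (h : Module.Flat (A ⧸ (K ⊔ I)) ((A ⧸ (K ⊔ I)) ⊗[A] N)) :
    Module.Flat ((A ⧸ K) ⧸ I.map (algebraMap A (A ⧸ K)))
      (((A ⧸ K) ⧸ I.map (algebraMap A (A ⧸ K))) ⊗[A ⧸ K] ((A ⧸ K) ⊗[A] N)) := by
  let R := A ⧸ K
  let Ib : Ideal R := I.map (algebraMap A R)
  haveI : Module.Flat (R ⧸ Ib) ((R ⧸ Ib) ⊗[A] N) := by
    let K' : Ideal A := K ⊔ I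
    haveI := h
    let ψ : (A ⧸ K') →+* R ⧸ Ib := Ideal.Quotient.lift K' (algebraMap A (R ⧸ Ib)) fun x hx => by
      obtain ⟨y, hy, z, hz, rfl⟩ := Submodule.mem_sup.1 hx
      rw [map_add, IsScalarTower.algebraMap_apply A R (R ⧸ Ib) y, show algebraMap A R y = 0 from
        Ideal.Quotient.eq_zero_iff_mem.2 hy, map_zero, zero_add, IsScalarTower.algebraMap_apply A R (R ⧸ Ib) z]
      exact Ideal.Quotient.eq_zero_iff_mem.2 (Ideal.mem_map_of_mem _ hz)
    letI : Algebra (A ⧸ K') (R ⧸ Ib) := ψ.toAlgebra
    haveI : IsScalarTower A (A ⧸ K') (R ⧸ Ib) := IsScalarTower.of_algebraMap_eq fun _ => rfl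
    exact Module.Flat.of_linearEquiv
      (AlgebraTensorModule.cancelBaseChange A (A ⧸ K') (R ⧸ Ib) (R ⧸ Ib) N).symm
  exact Module.Flat.of_linearEquiv (AlgebraTensorModule.cancelBaseChange A R (R ⧸ Ib) (R ⧸ Ib) N)

/-- Flatness over a square-zero extension from injectivity on the ideal. -/
theorem flat_of_sq_zero {A R : Type u} [CommRing A] [CommRing R] [Algebra A R] (Ib : Ideal R) (N : Type u)
    [AddCommGroup N] [Module A N] (hsq0 : Ib ^ 2 = 0)
    (hflat : Module.Flat (R ⧸ Ib) ((R ⧸ Ib) ⊗[R] (R ⊗[A] N)))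
    (hinjA : Function.Injective ((Ib.subtype.restrictScalars A).rTensor N)) : Module.Flat R (R ⊗[A] N) := by
  haveI := hflat
  refine Groth.Agent.MLMod.flat_of_nilpotent (M := R ⊗[A] N) Ib ⟨2, hsq0⟩ ?_
  -- transport
  let M₀ := R ⊗[A] N
  let e₁ := (AlgebraTensorModule.cancelBaseChange A R R Ib N)
  let e₂ := (AlgebraTensorModule.cancelBaseChange A R R R N)
  have hsq : ∀ z, e₂ (Ib.subtype.rTensor M₀ z) = (Ib.subtype.restrictScalars A).rTensor N (e₁ z) := by
    intro z
    induction z using TensorProduct.induction_on with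
    | zero => simp
    | add a b ha hb => simp only [map_add, ha, hb]
    | tmul x y =>
      induction y using TensorProduct.induction_on with
      | zero => simp
      | add a b ha hb => simp only [TensorProduct.tmul_add, map_add, ha, hb]
      | tmul c n =>
        erw [AlgebraTensorModule.cancelBaseChange_tmul]
  intro z z' h
  exact e₁.injective (hinjA (by rw [← hsq, ← hsq, h]))

/-- The flattening ideal dies in a base change which is flat at a detecting set of points. -/
theorem map_eq_bot_of_detects {A B : Type u} [CommRing A] [IsLocalRing A] [CommRing B] [Algebra A B] {q : Ideal B}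
    [q.IsPrime] [q.LiesOver (maximalIdeal A)]
    [IsNoetherianRing (Localization.AtPrime q ⧸ (maximalIdeal A).map (algebraMap A (Localization.AtPrime q)))] (N : Type u)
    [AddCommGroup N] [Module A N] [Module B N] [Module (Localization.AtPrime q) N] [IsScalarTower A B N]
    [IsScalarTower B (Localization.AtPrime q) N] [IsScalarTower A (Localization.AtPrime q) N]
    [Module.Finite (Localization.AtPrime q) N] (I : Ideal A)
    (hIfg : I.FG) (hI : ∀ K : Ideal A, K ≤ maximalIdeal A → (Module.Flat (A ⧸ K) ((A ⧸ K) ⊗[A] N) ↔ I ≤ K))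
    (A' T : Type u) [CommRing A'] [IsLocalRing A'] [Algebra A A'] [IsLocalHom (algebraMap A A')] [CommRing T]
    [Algebra A T] [Algebra A' T] [Algebra B T] [IsScalarTower A A' T] [IsScalarTower A B T]
    [Algebra.IsPushout A A' B T] (S : Set (Ideal T))
    (hS : ∀ P ∈ S, ∃ _ : P.IsPrime, P.comap (algebraMap A' T) = maximalIdeal A' ∧
      Module.Flat A' (Localization.AtPrime P ⊗[B] N))
    (hdet : Detects A B q A' T S) :
    I.map (algebraMap A A') = ⊥ := by
  classical
  let m := maximalIdeal A
  let m' := maximalIdeal A'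
  -- `I` is proper
  have hIm : I ≤ m := (hI m le_rfl).1 (flat_over_residue m N)
  let Ī := I.map (algebraMap A A')
  have hfg : Ī.FG := Ideal.FG.map hIfg _
  by_contra hne
  let L : Ideal A' := m' * Ī
  let C := A' ⧸ L
  let K : Ideal A := L.comap (algebraMap A A')
  have hmm : ∀ a ∈ m, algebraMap A A' a ∈ m' := fun a ha => map_nonunit (algebraMap A A') a ha
  have hLm : L ≤ m' := Ideal.mul_le.2 fun r hr s _ => Ideal.mul_mem_right s m' hr
  have hKm : K ≤ m := fun a ha => by
    by_contra hu
    exact (maximalIdeal.isMaximal A').ne_top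
      (Ideal.eq_top_of_isUnit_mem m' (hLm (show algebraMap A A' a ∈ L from ha)) ((notMem_maximalIdeal.1 hu).map _))
  suffices hkey : Module.Flat (A ⧸ K) ((A ⧸ K) ⊗[A] N) by
    exact hne (Submodule.eq_bot_of_le_smul_of_le_jacobson_bot m' Ī hfg
      (Ideal.map_le_iff_le_comap.2 ((hI K hKm).1 hkey)) (maximalIdeal_le_jacobson ⊥))
  let R := A ⧸ K
  let Ib : Ideal R := I.map (algebraMap A R)
  have hmI : ∀ a ∈ m, ∀ b ∈ I, a * b ∈ K := fun a ha b hb => by
    show algebraMap A A' (a * b) ∈ L
    rw [map_mul]; exact Ideal.mul_mem_mul (hmm a ha) (Ideal.mem_map_of_mem _ hb)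
  refine flat_of_sq_zero Ib N ?_ (flat_quotient_sup I K N ((hI (K ⊔ I) (sup_le hKm hIm)).2 le_sup_right)) ?_
  · rw [pow_two, ← Ideal.map_mul, Ideal.zero_eq_bot, Ideal.map_eq_bot_iff_le_ker, Ideal.Quotient.algebraMap_eq,
      Ideal.mk_ker]
    exact Ideal.mul_le.2 fun a ha b hb => hmI a (hIm ha) b hb
  -- the map to `C`
  let v₀ : R →ₗ[A] C := Submodule.mapQ K (L.restrictScalars A) (Algebra.linearMap A A') fun a ha => ha
  have hv₀ : Function.Injective v₀ := by
    rw [injective_iff_map_eq_zero]
    intro x hx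
    obtain ⟨x, rfl⟩ := Submodule.Quotient.mk_surjective _ x
    exact (Submodule.Quotient.mk_eq_zero _).2 ((Submodule.Quotient.mk_eq_zero L).1 hx)
  let V : Submodule A' C := Submodule.map (Submodule.mkQ L) (Ī : Submodule A' A')
  have hV : ∀ a ∈ m', ∀ v : V, a • v = 0 := by
    rintro a ha ⟨_, b, hb, rfl⟩
    refine Subtype.ext ?_
    show a • Submodule.mkQ L b = 0
    rw [← map_smul]
    exact (Submodule.Quotient.mk_eq_zero L).2 (Ideal.mul_mem_mul ha hb)
  let v : Ib →ₗ[A] V := LinearMap.codRestrict (V.restrictScalars A) (v₀.comp (Ib.subtype.restrictScalars A))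
    fun x => by
      obtain ⟨x, hx⟩ := x
      obtain ⟨a, ha, rfl⟩ := (Ideal.mem_map_iff_of_surjective _ Ideal.Quotient.mk_surjective).1 hx
      exact ⟨algebraMap A A' a, Ideal.mem_map_of_mem _ ha, rfl⟩
  have hv : Function.Injective v := fun x y h => Subtype.ext (hv₀ (congrArg Subtype.val h))
  have hkV : ∀ a ∈ m, ∀ x : V, a • x = 0 := fun a ha x => by
    rw [← algebraMap_smul A' a x]; exact hV _ (hmm a ha) x
  have hkI : ∀ a ∈ m, ∀ x : Ib, a • x = 0 := fun a ha x => hv (by rw [map_smul, map_zero, hkV a ha])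
  obtain ⟨r, hr⟩ := exists_retraction hkI hkV v hv
  -- injectivity
  · rw [injective_iff_map_eq_zero]
    intro w hw
    suffices hz : v.rTensor N w = 0 by
      have h1 := congrArg (r.rTensor N) hz
      rwa [← LinearMap.comp_apply, ← LinearMap.rTensor_comp, hr, LinearMap.rTensor_id, map_zero] at h1
    exact eq_zero_of_detects_tensor N A' T S hS hdet V.subtype Subtype.val_injective hV (v.rTensor N w) (by
      rw [← LinearMap.comp_apply, ← LinearMap.rTensor_comp,
        show (V.subtype.restrictScalars A).comp v = v₀.comp (Ib.subtype.restrictScalars A) from rfl,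
        LinearMap.rTensor_comp, LinearMap.comp_apply, hw, map_zero])

end Groth.Agent.FlatDom
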