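import Mathlib
import Groth.Agent.Hensel.HenselizationProps
import Groth.Agent.Hensel.HenselizationNormal
import Groth.Agent.Hensel.BranchMore
import Groth.Agent.Hensel.BranchCount
import Groth.Agent.RG.Dev.CorepTop

/-!
A henselization of a unibranch domain injects into a localised base change of any dominating local ring.
-/

set_option autoImplicit false
set_option linter.style.haveILetI false

universe u

open IsLocalRing TensorProduct

namespace Groth.Agent.FlatDom

/-- Regular elements of a flat algebra over a domain stay regular enough after base change. -/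
theorem exists_smul_eq_zero_of_mul {A A' H : Type u} [CommRing A] [IsDomain A] [CommRing A'] [CommRing H]
    [Algebra A A'] [Algebra A H] [IsDomain H] (a : H) (ha : a ≠ 0) (s : A' ⊗[A] H)
    (h : ((1 : A') ⊗ₜ[A] a) * s = 0) : ∃ c : A, c ≠ 0 ∧ c • s = 0 := by
  let K := FractionRing A
  let g : A' →ₗ[A] K ⊗[A] A' := TensorProduct.mk A K A' 1
  haveI : IsLocalizedModule (nonZeroDivisors A) g :=
    (isLocalizedModule_iff_isBaseChange (nonZeroDivisors A) K g).2 (TensorProduct.isBaseChange A A' K)
  let f : A' ⊗[A] H →ₗ[A] (K ⊗[A] A') ⊗[A] H := AlgebraTensorModule.rTensor A H g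
  haveI : IsLocalizedModule (nonZeroDivisors A) f :=
    inferInstanceAs (IsLocalizedModule (nonZeroDivisors A) (AlgebraTensorModule.rTensor A H g))
  haveI : Module.Flat A K := IsLocalization.flat K (nonZeroDivisors A)
  haveI : Module.Flat A (K ⊗[A] A') := Module.Flat.trans A K _
  let μ : H →ₗ[A] H := LinearMap.mulLeft A a
  have hμ : Function.Injective μ := fun x y h => mul_left_cancel₀ ha h
  have hμ' : Function.Injective (μ.lTensor (K ⊗[A] A')) := Module.Flat.lTensor_preserves_injective_linearMap μ hμ
  have h1 : ∀ z : A' ⊗[A] H, μ.lTensor (K ⊗[A] A') (f z) = f (((1 : A') ⊗ₜ[A] a) * z) := by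
    intro z
    induction z using TensorProduct.induction_on with
    | zero => simp
    | add x y hx hy => simp only [map_add, mul_add, hx, hy]
    | tmul x y =>
      rw [Algebra.TensorProduct.tmul_mul_tmul, one_mul]
      rfl
  have h2 : f s = 0 := hμ' (by rw [h1, h, map_zero, map_zero])
  obtain ⟨c, hc⟩ := (IsLocalizedModule.eq_zero_iff (nonZeroDivisors A) f).1 h2
  exact ⟨c.1, nonZeroDivisors.ne_zero c.2, hc⟩

/-- The same, for a given henselization. -/
theorem exists_injective_aux {A A' : Type u} [CommRing A] [IsDomain A] [IsLocalRing A]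
    (hA : CAlg2.IsUnibranch A) [CommRing A'] [IsLocalRing A'] [Algebra A A'] [IsLocalHom (algebraMap A A')]
    (hinj : Function.Injective (algebraMap A A'))
    (H₀ : Type u) [CommRing H₀] [HenselianLocalRing H₀] [Algebra A H₀] [IsLocalHom (algebraMap A H₀)]
    [_root_.Hensel.IsHenselization A H₀] [Module.Flat A H₀] :
    ∃ (H : Type u) (_ : CommRing H) (_ : HenselianLocalRing H) (_ : Algebra A H)
      (L : Type u) (_ : CommRing L) (_ : IsLocalRing L) (ι : H →+* L) (κ : A' →+* L),
      Module.Flat A H ∧ (maximalIdeal H).LiesOver (maximalIdeal A) ∧ IsLocalHom ι ∧ IsLocalHom κ ∧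
      ι.comp (algebraMap A H) = κ.comp (algebraMap A A') ∧ Function.Injective ι := by
  haveI : IsReduced H₀ := (Groth.Agent.Hensel.henselization_isReduced_iff A H₀).1 inferInstance
  haveI : IsDomain H₀ := by
    have h1 : ENat.card (minimalPrimes H₀) = 1 := by
      rw [Groth.Agent.Hensel.card_minimalPrimes_henselization (A := A) (S := H₀), Groth.Agent.Hensel.numBranches_eq_one_iff]
      exact hA
    obtain ⟨hu⟩ := ENat.card_eq_one_iff_unique.1 h1
    have h2 : minimalPrimes H₀ = {hu.default.1} := Set.eq_singleton_iff_unique_mem.2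
      ⟨hu.default.2, fun P hP => congrArg Subtype.val (hu.uniq ⟨P, hP⟩)⟩
    have h3 : (⊥ : Ideal H₀) = hu.default.1 := by
      have h4 : nilradical H₀ = sInf (minimalPrimes H₀) := by
        rw [nilradical, Ideal.zero_eq_bot, ← Ideal.sInf_minimalPrimes]
      rw [nilradical_eq_zero, h2, sInf_singleton] at h4
      exact h4
    haveI : (⊥ : Ideal H₀).IsPrime := h3 ▸ hu.default.2.1.1
    exact IsDomain.of_bot_isPrime H₀
  haveI hoverH : (maximalIdeal H₀).LiesOver (maximalIdeal A) :=
    ⟨(IsLocalRing.maximalIdeal_comap (algebraMap A H₀)).symm⟩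
  haveI : (maximalIdeal A').LiesOver (maximalIdeal A) :=
    ⟨(IsLocalRing.maximalIdeal_comap (algebraMap A A')).symm⟩
  obtain ⟨P, hP, hP1, hP2⟩ := Groth.Agent.RG.Pure.exists_prime_both (maximalIdeal A) (maximalIdeal A') (maximalIdeal H₀)
  haveI := hP
  letI : Algebra H₀ (A' ⊗[A] H₀) := Algebra.TensorProduct.rightAlgebra
  let L := Localization.AtPrime P
  let ι : H₀ →+* L := (algebraMap (A' ⊗[A] H₀) L).comp (Algebra.TensorProduct.includeRight : H₀ →ₐ[A] A' ⊗[A] H₀).toRingHom
  let κ : A' →+* L := (algebraMap (A' ⊗[A] H₀) L).comp Algebra.TensorProduct.includeLeftRingHom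
  have hι : IsLocalHom ι := by
    refine ((IsLocalRing.local_hom_TFAE ι).out 0 4).2 ?_
    show (maximalIdeal L).comap _ = _
    rw [← Ideal.comap_comap]
    rw [show (maximalIdeal L).comap (algebraMap (A' ⊗[A] H₀) L) = P from Localization.AtPrime.comap_maximalIdeal]
    exact hP2
  have hκ : IsLocalHom κ := by
    refine ((IsLocalRing.local_hom_TFAE κ).out 0 4).2 ?_
    show (maximalIdeal L).comap _ = _
    rw [← Ideal.comap_comap]
    rw [show (maximalIdeal L).comap (algebraMap (A' ⊗[A] H₀) L) = P from Localization.AtPrime.comap_maximalIdeal]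
    exact hP1
  have hcomp : ι.comp (algebraMap A H₀) = κ.comp (algebraMap A A') := by
    ext a
    show algebraMap (A' ⊗[A] H₀) L ((1 : A') ⊗ₜ[A] algebraMap A H₀ a) = algebraMap (A' ⊗[A] H₀) L (algebraMap A A' a ⊗ₜ[A] 1)
    rw [Algebra.algebraMap_eq_smul_one a, Algebra.algebraMap_eq_smul_one a, ← TensorProduct.smul_tmul]
  haveI : Module.Flat A' L := by
    haveI : Module.Flat A' (A' ⊗[A] H₀) := inferInstance
    exact Module.Flat.trans A' (A' ⊗[A] H₀) L
  letI : Algebra A' L := inferInstance
  have hκinj : Function.Injective κ := by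
    haveI : IsLocalHom (algebraMap A' L) := by
      rw [IsScalarTower.algebraMap_eq A' (A' ⊗[A] H₀) L]; exact hκ
    haveI : Module.FaithfullyFlat A' L := Module.FaithfullyFlat.of_flat_of_isLocalHom
    have := FaithfulSMul.algebraMap_injective A' L
    rw [IsScalarTower.algebraMap_eq A' (A' ⊗[A] H₀) L] at this
    exact this
  refine ⟨H₀, inferInstance, inferInstance, inferInstance, L, inferInstance, inferInstance, ι, κ, inferInstance,
    hoverH, hι, hκ, hcomp, ?_⟩
  rw [injective_iff_map_eq_zero]
  intro a ha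
  by_contra hne
  obtain ⟨s, hs⟩ := (IsLocalization.map_eq_zero_iff P.primeCompl L _).1 ha
  obtain ⟨c, hc, hcs⟩ := exists_smul_eq_zero_of_mul a hne s.1 (by rw [mul_comm]; exact hs)
  have h1 : κ (algebraMap A A' c) * algebraMap (A' ⊗[A] H₀) L s.1 = 0 := by
    show algebraMap (A' ⊗[A] H₀) L (algebraMap A A' c ⊗ₜ[A] 1) * _ = 0
    rw [← map_mul, show (algebraMap A A' c ⊗ₜ[A] (1 : H₀)) * s.1 = c • s.1 from by
      rw [Algebra.smul_def]; rfl, hcs, map_zero]
  rw [(IsLocalization.map_units L s).mul_left_eq_zero] at h1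
  exact hc (hinj ((hκinj (h1.trans (map_zero κ).symm)).trans (map_zero (algebraMap A A')).symm))


/-- A henselization of a unibranch domain and a local ring over it and over a given dominating local ring. -/
theorem exists_injective_over_henselization {A A' : Type u} [CommRing A] [IsDomain A] [IsLocalRing A]
    (hA : CAlg2.IsUnibranch A) [CommRing A'] [IsLocalRing A'] [Algebra A A'] [IsLocalHom (algebraMap A A')]
    (hinj : Function.Injective (algebraMap A A')) :
    ∃ (H : Type u) (_ : CommRing H) (_ : HenselianLocalRing H) (_ : Algebra A H)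
      (L : Type u) (_ : CommRing L) (_ : IsLocalRing L) (ι : H →+* L) (κ : A' →+* L),
      Module.Flat A H ∧ (maximalIdeal H).LiesOver (maximalIdeal A) ∧ IsLocalHom ι ∧ IsLocalHom κ ∧
      ι.comp (algebraMap A H) = κ.comp (algebraMap A A') ∧ Function.Injective ι := by
  obtain ⟨hloc, hH⟩ := Groth.Agent.Hensel.exists_henselization A
  let H := Hensel.Env A (ResidueField A)
  haveI := hloc
  haveI := hH
  haveI : HenselianLocalRing H := hH.1
  haveI : Module.Flat A H := Groth.Agent.Hensel.henselization_flat (R := A) (S := H)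
  exact exists_injective_aux hA hinj H

end Groth.Agent.FlatDom
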