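import Mathlib
import Groth.Agent.Hensel.HenselizationProps
import Groth.Agent.Hensel.HenselizationMore
import Groth.Agent.Hensel.BranchMore
import Groth.Agent.Hensel.BranchCountStrict
import Groth.Agent.FlatDom.Unibranch

/-!
The strict henselization of a geometrically unibranch local domain.
-/

set_option autoImplicit false
set_option linter.style.haveILetI false

universe u

open IsLocalRing TensorProduct

namespace Groth.Agent.FlatDom

/-- A henselization with separably closed residue field, a domain for a geometrically unibranch domain. -/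
theorem isDomain_strict {A : Type u} [CommRing A] [IsDomain A] [IsLocalRing A] (hA : CAlg2.IsGeomUnibranch A)
    (H : Type u) [CommRing H] [IsLocalRing H] [Algebra A H] [IsLocalHom (algebraMap A H)]
    [_root_.Hensel.IsStrictHenselization A H] : IsDomain H := by
  haveI : IsReduced H := (Groth.Agent.Hensel.strictHenselization_isReduced_iff A H).2 inferInstance
  have h1 : ENat.card (minimalPrimes H) = 1 := by
    rw [Groth.Agent.Hensel.card_minimalPrimes_strictHenselization (A := A) (S := H),
      Groth.Agent.Hensel.numGeomBranches_eq_one_iff]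
    exact hA
  obtain ⟨hu⟩ := ENat.card_eq_one_iff_unique.1 h1
  have h2 : minimalPrimes H = {hu.default.1} := Set.eq_singleton_iff_unique_mem.2
    ⟨hu.default.2, fun P hP => congrArg Subtype.val (hu.uniq ⟨P, hP⟩)⟩
  have h4 : nilradical H = sInf (minimalPrimes H) := by
    rw [nilradical, Ideal.zero_eq_bot, ← Ideal.sInf_minimalPrimes]
  rw [nilradical_eq_zero, h2, sInf_singleton] at h4
  haveI : (⊥ : Ideal H).IsPrime := by
    have h5 := hu.default.2.1.1
    rwa [← h4] at h5
  exact IsDomain.of_bot_isPrime H

/-- Existence with the properties used for flatness descent. -/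
theorem exists_strict_domain {A : Type u} [CommRing A] [IsDomain A] [IsLocalRing A] (hA : CAlg2.IsGeomUnibranch A) :
    ∃ (H : Type u) (_ : CommRing H) (_ : HenselianLocalRing H) (_ : Algebra A H),
      Module.Flat A H ∧ (maximalIdeal H).LiesOver (maximalIdeal A) ∧ IsDomain H ∧ IsSepClosed (ResidueField H) := by
  obtain ⟨hloc, hH⟩ := Groth.Agent.Hensel.exists_strictHenselization A
  let H := Hensel.Env A (SeparableClosure (ResidueField A))
  haveI := hloc
  haveI := hH
  haveI : HenselianLocalRing H := hH.1
  haveI : Module.Flat A H := Groth.Agent.Hensel.strictHenselization_flat (R := A) (S := H)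
  exact ⟨H, inferInstance, inferInstance, inferInstance, inferInstance,
    ⟨(IsLocalRing.maximalIdeal_comap (algebraMap A H)).symm⟩, isDomain_strict hA H, hH.2.sep_closed⟩

/-- A flat domain over a domain injects into the localised base changes along faithfully injective local maps. -/
theorem injective_localized_includeRight {A A' H : Type u} [CommRing A] [IsDomain A] [CommRing A'] [IsLocalRing A']
    [CommRing H] [IsDomain H] [Algebra A A'] [Algebra A H] [Module.Flat A H]
    (hinj : Function.Injective (algebraMap A A')) (P : Ideal (A' ⊗[A] H)) [P.IsPrime]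
    (hP : P.comap (algebraMap A' (A' ⊗[A] H)) = maximalIdeal A') :
    Function.Injective ((algebraMap (A' ⊗[A] H) (Localization.AtPrime P)).comp
      (Algebra.TensorProduct.includeRight : H →ₐ[A] A' ⊗[A] H).toRingHom) := by
  let L := Localization.AtPrime P
  haveI : Module.Flat A' L := Module.Flat.trans A' (A' ⊗[A] H) L
  haveI : IsLocalHom (algebraMap A' L) := by
    refine ((IsLocalRing.local_hom_TFAE (algebraMap A' L)).out 0 4).2 ?_
    rw [IsScalarTower.algebraMap_eq A' (A' ⊗[A] H) L, ← Ideal.comap_comap,
      show (maximalIdeal L).comap (algebraMap (A' ⊗[A] H) L) = P from Localization.AtPrime.comap_maximalIdeal]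
    exact hP
  haveI : Module.FaithfullyFlat A' L := Module.FaithfullyFlat.of_flat_of_isLocalHom
  rw [injective_iff_map_eq_zero]
  intro a ha
  by_contra hne
  obtain ⟨s, hs⟩ := (IsLocalization.map_eq_zero_iff P.primeCompl L _).1 ha
  obtain ⟨c, hc, hcs⟩ := exists_smul_eq_zero_of_mul a hne s.1 (by rw [mul_comm]; exact hs)
  have h1 : algebraMap A' L (algebraMap A A' c) * algebraMap (A' ⊗[A] H) L s.1 = 0 := by
    rw [IsScalarTower.algebraMap_apply A' (A' ⊗[A] H) L, ← map_mul,
      show algebraMap A' (A' ⊗[A] H) (algebraMap A A' c) * s.1 = c • s.1 from by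
        rw [Algebra.smul_def, IsScalarTower.algebraMap_apply A A' (A' ⊗[A] H)],
      hcs, map_zero]
  rw [(IsLocalization.map_units L s).mul_left_eq_zero] at h1
  exact hc (hinj ((FaithfulSMul.algebraMap_injective A' L (h1.trans (map_zero _).symm)).trans (map_zero _).symm))

end Groth.Agent.FlatDom
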