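import Mathlib
import Groth.Agent.FlatDom.Core
import Groth.Agent.FlatDom.Primary
import Groth.Agent.FlatDom.Strict
import Groth.Agent.FlatModBC.Basic

/-!
Flatness at a point from one point of a base change, over a henselian domain with separably closed residue field.
-/

set_option autoImplicit false
set_option linter.style.haveILetI false
set_option backward.isDefEq.respectTransparency false

universe u

open TensorProduct IsLocalRing Groth.Agent.RG.Dev.Corep

namespace Groth.Agent.FlatDom

/-- Tensoring with an algebra where the localised elements are units does not see the localisation. -/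
theorem exists_tensor_localized_equiv {B W M : Type u} [CommRing B] [CommRing W] [Algebra B W] [AddCommGroup M]
    [Module B M] (U : Submonoid B) (hu : ∀ b : U, IsUnit (algebraMap B W b)) :
    Nonempty (W ⊗[B] LocalizedModule U M ≃ₗ[W] W ⊗[B] M) := by
  let BU := Localization U
  letI : Algebra BU W := (IsLocalization.lift (S := BU) hu).toAlgebra
  haveI : IsScalarTower B BU W := IsScalarTower.of_algebraMap_eq fun b => by
    rw [RingHom.algebraMap_toAlgebra, IsLocalization.lift_eq]
  haveI := IsLocalization.tensorProduct_compatibleSMul (R := B) U BU W (LocalizedModule U M)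
  exact ⟨(TensorProduct.equivOfCompatibleSMul BU B W W (LocalizedModule U M)).trans
    ((AlgebraTensorModule.congr (LinearEquiv.refl W W) (LocalizedModule.equivTensorProduct U M)).trans
      (AlgebraTensorModule.cancelBaseChange B BU W W M))⟩

/-- Over a separably closed field every extension is primary. -/
theorem mem_range_of_isSepClosed {k F : Type u} [Field k] [Field F] [Algebra k F] [IsSepClosed k] (a : F)
    (ha : IsSeparable k a) : a ∈ (algebraMap k F).range := by
  have hint : IsIntegral k a := ha.isIntegral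
  have hdeg : (minpoly k a).degree = 1 :=
    IsSepClosed.degree_eq_one_of_irreducible k (minpoly.irreducible hint) ha
  exact minpoly.mem_range_of_degree_eq_one k a hdeg

/-- The flattening ideal tests quotients of the base by their points. -/
theorem flat_quotient_iff_of_corep {H T : Type u} [CommRing H] [IsLocalRing H] [CommRing T] [Algebra H T]
    (X : Type u) [AddCommGroup X] [Module T X] [Module H X] [IsScalarTower H T X] (P : Ideal T) [P.IsPrime]
    [P.LiesOver (maximalIdeal H)] (I : Ideal H) (hI : CorepT H T P X I) (K : Ideal H) (hK : K ≤ maximalIdeal H) :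
    Module.Flat (H ⧸ K) ((H ⧸ K) ⊗[H] LocalizedModule P.primeCompl X) ↔ I ≤ K := by
  let R := H ⧸ K
  haveI : Nontrivial R := Ideal.Quotient.nontrivial_iff.2 fun ht =>
    (maximalIdeal.isMaximal H).ne_top (top_le_iff.1 (ht ▸ hK))
  haveI : IsLocalRing R := IsLocalRing.of_surjective' _ Ideal.Quotient.mk_surjective
  haveI : IsLocalHom (algebraMap H R) := IsLocalHom.of_surjective _ Ideal.Quotient.mk_surjective
  obtain ⟨T₁, _, _, _, _, _, _, hpo, hsurj⟩ := exists_quot_bc K T
  haveI := hpo
  have h1 : I ≤ K ↔ I.map (algebraMap H R) = ⊥ := by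
    rw [Ideal.map_eq_bot_iff_le_ker, Ideal.Quotient.algebraMap_eq, Ideal.mk_ker]
  rw [h1, ← hI R T₁]
  constructor
  · intro h Q _ hQP _
    exact (flat_localized_quot_iff (R := H) (R₁ := R) Ideal.Quotient.mk_surjective hsurj X P Q hQP).2 h
  · intro h
    obtain ⟨Q, hQ, hQP, hQm⟩ := exists_point (R := H) (R' := R) (B' := T₁) P
    haveI := hQ
    exact (flat_localized_quot_iff (R := H) (R₁ := R) Ideal.Quotient.mk_surjective hsurj X P Q hQP).1 (h Q hQP hQm)

/-- The fibre of a finitely presented algebra at a point is noetherian. -/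
theorem isNoetherianRing_fibre {H T : Type u} [CommRing H] [IsLocalRing H] [CommRing T] [Algebra H T]
    [Algebra.FiniteType H T] (P : Ideal T) [P.IsPrime] :
    IsNoetherianRing (Localization.AtPrime P ⧸ (maximalIdeal H).map (algebraMap H (Localization.AtPrime P))) := by
  let L := Localization.AtPrime P
  let m := maximalIdeal H
  haveI : Algebra.EssFiniteType H (L ⧸ m.map (algebraMap H L)) := Algebra.EssFiniteType.comp H L _
  letI : Field (H ⧸ m) := Ideal.Quotient.field _
  haveI : Algebra.EssFiniteType (H ⧸ m) (L ⧸ m.map (algebraMap H L)) := Algebra.EssFiniteType.of_comp H (H ⧸ m) _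
  exact Algebra.EssFiniteType.isNoetherianRing (H ⧸ m) _

/-- Flattening ideals die in local algebras flat at one point, for a separably closed residue field. -/
theorem map_eq_bot_of_point {H T : Type u} [CommRing H] [IsLocalRing H] [IsSepClosed (ResidueField H)] [CommRing T]
    [Algebra H T] [Algebra.FiniteType H T] (X : Type u) [AddCommGroup X] [Module T X] [Module H X]
    [IsScalarTower H T X] [Module.Finite T X] (P : Ideal T) [P.IsPrime] [hPover : P.LiesOver (maximalIdeal H)]
    (I : Ideal H) (hI : CorepT H T P X I) (hIfg : I.FG)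
    (L TL : Type u) [CommRing L] [IsLocalRing L] [Algebra H L] [IsLocalHom (algebraMap H L)] [CommRing TL]
    [Algebra H TL] [Algebra L TL] [Algebra T TL] [IsScalarTower H L TL] [IsScalarTower H T TL]
    [Algebra.IsPushout H L T TL] (Z : Ideal TL) [Z.IsPrime] (hZP : Z.comap (algebraMap T TL) = P)
    (hZm : Z.comap (algebraMap L TL) = maximalIdeal L)
    (hflat : Module.Flat L (Localization.AtPrime Z ⊗[T] LocalizedModule P.primeCompl X)) :
    I.map (algebraMap H L) = ⊥ := by
  haveI := isNoetherianRing_fibre (H := H) P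
  let k := ResidueField H
  let f₀ : k →+* P.ResidueField := Ideal.Quotient.lift (maximalIdeal H) (algebraMap H P.ResidueField)
    fun a ha => by
      rw [IsScalarTower.algebraMap_apply H T P.ResidueField]
      exact Ideal.algebraMap_residueField_eq_zero.2 ((SetLike.ext_iff.1 hPover.over a).1 ha)
  letI : Algebra k P.ResidueField := f₀.toAlgebra
  haveI : IsScalarTower H k P.ResidueField := IsScalarTower.of_algebraMap_eq fun _ => rfl
  refine map_eq_bot_of_detects (A := H) (B := T) (q := P) (LocalizedModule P.primeCompl X) I hIfg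
    (fun K hK => flat_quotient_iff_of_corep X P I hI K hK) L TL {Z} ?_
    (Groth.Agent.FlatFam.detects_primary P (fun a ha => mem_range_of_isSepClosed a ha) L TL Z hZP hZm)
  intro P' hP'
  obtain rfl : P' = Z := hP'
  exact ⟨inferInstance, hZm, hflat⟩

/-- Flatness moves from a point of one base change to a point above it. -/
theorem flat_tensor_above {A B A' T' L TL M : Type u} [CommRing A] [CommRing B] [Algebra A B] [CommRing A']
    [Algebra A A'] [CommRing T'] [Algebra A T'] [Algebra A' T'] [Algebra B T'] [IsScalarTower A A' T']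
    [IsScalarTower A B T'] [CommRing L] [Algebra A' L] [CommRing TL] [Algebra L TL] [Algebra T' TL] [Algebra A' TL]
    [IsScalarTower A' L TL] [IsScalarTower A' T' TL] [Algebra.IsPushout A' L T' TL] [Algebra B TL]
    [IsScalarTower B T' TL] [AddCommGroup M] [Module B M] (P' : Ideal T') [P'.IsPrime] (Z : Ideal TL) [Z.IsPrime]
    (hZP : Z.comap (algebraMap T' TL) = P')
    (h : Module.Flat A' (Localization.AtPrime P' ⊗[B] M)) :
    Module.Flat L (Localization.AtPrime Z ⊗[B] M) := by
  let LP := Localization.AtPrime P'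
  let LZ := Localization.AtPrime Z
  let Y := LP ⊗[B] M
  haveI := h
  haveI : Algebra.IsPushout A' T' L TL := Algebra.IsPushout.symm inferInstance
  haveI : Module.Flat L (L ⊗[A'] Y) := Module.Flat.baseChange A' L Y
  haveI h2 : Module.Flat L (LZ ⊗[T'] Y) :=
    Groth.Agent.FlatModBC.flat_tensor_localization (A := A') (B := T') (C := L) (B' := TL) (L := LZ) Z.primeCompl Y
  have hu : ∀ b : P'.primeCompl, IsUnit (algebraMap T' LZ b) := fun b => by
    rw [IsScalarTower.algebraMap_apply T' TL LZ]
    exact IsLocalization.map_units LZ (⟨algebraMap T' TL b, fun hb => b.2 ((SetLike.ext_iff.1 hZP b.1).1 hb)⟩ : Z.primeCompl)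
  letI : Algebra LP LZ := (IsLocalization.lift (S := LP) hu).toAlgebra
  haveI : IsScalarTower T' LP LZ := IsScalarTower.of_algebraMap_eq fun b => by
    rw [RingHom.algebraMap_toAlgebra, IsLocalization.lift_eq]
  haveI : IsScalarTower B LP LZ := IsScalarTower.of_algebraMap_eq fun b => by
    rw [IsScalarTower.algebraMap_apply B T' LP, ← IsScalarTower.algebraMap_apply T' LP LZ,
      ← IsScalarTower.algebraMap_apply]
  haveI := IsLocalization.tensorProduct_compatibleSMul (R := T') P'.primeCompl LP LZ Y
  exact Module.Flat.of_linearEquiv (((TensorProduct.equivOfCompatibleSMul LP T' LZ LZ Y).trans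
    (AlgebraTensorModule.cancelBaseChange B LP LZ LZ M)).restrictScalars L).symm

/-- Flattening ideals die in the base change at a common point. -/
theorem map_eq_bot_at {A B A' T' H T Ω M : Type u} [CommRing A] [CommRing B] [Algebra A B] [CommRing A'] [Algebra A A']
    [CommRing T'] [Algebra A T'] [Algebra A' T'] [Algebra B T'] [IsScalarTower A A' T'] [IsScalarTower A B T']
    [Algebra.IsPushout A A' B T'] [CommRing H] [IsLocalRing H] [IsSepClosed (ResidueField H)] [Algebra A H]
    [CommRing T] [Algebra A T] [Algebra H T] [Algebra B T] [IsScalarTower A H T] [IsScalarTower A B T]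
    [Algebra.IsPushout A H B T] [Algebra.FiniteType H T] [Field Ω] [AddCommGroup M] [Module B M] [Module.Finite B M]
    (q : Ideal B) [q.IsPrime] (P : Ideal T) [P.IsPrime] [P.LiesOver (maximalIdeal H)]
    (hPq : P.comap (algebraMap B T) = q) (I : Ideal H) (hI : CorepT H T P (T ⊗[B] M) I) (hIfg : I.FG)
    (P' : Ideal T') [P'.IsPrime] (hP'q : P'.comap (algebraMap B T') = q)
    (h : Module.Flat A' (Localization.AtPrime P' ⊗[B] LocalizedModule q.primeCompl M))
    (L : Type u) [CommRing L] [IsLocalRing L] [Algebra A L] [Algebra A' L] [IsScalarTower A A' L] [Algebra H L]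
    [IsScalarTower A H L] [IsLocalHom (algebraMap H L)]
    (jT' : T' →+* Ω) (jT : T →+* Ω) (hjB : ∀ b : B, jT' (algebraMap B T' b) = jT (algebraMap B T b))
    (hkT' : RingHom.ker jT' = P') (hkT : RingHom.ker jT = P) (jL : L →+* Ω) (hjL : RingHom.ker jL = maximalIdeal L)
    (hA' : ∀ a : A', jL (algebraMap A' L a) = jT' (algebraMap A' T' a))
    (hH : ∀ a : H, jL (algebraMap H L a) = jT (algebraMap H T a)) :
    I.map (algebraMap H L) = ⊥ := by
  haveI : IsScalarTower H T (T ⊗[B] M) := inferInstance
  obtain ⟨TL, _, _, _, _, _, _, hpo⟩ := exists_bc H L T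
  haveI := hpo
  letI : Algebra B TL := ((algebraMap T TL).comp (algebraMap B T)).toAlgebra
  haveI : IsScalarTower B T TL := IsScalarTower.of_algebraMap_eq fun _ => rfl
  letI : Algebra A TL := ((algebraMap B TL).comp (algebraMap A B)).toAlgebra
  haveI : IsScalarTower A B TL := IsScalarTower.of_algebraMap_eq fun _ => rfl
  haveI : IsScalarTower A H TL := IsScalarTower.of_algebraMap_eq fun x => by
    show algebraMap T TL (algebraMap B T (algebraMap A B x)) = _
    rw [← IsScalarTower.algebraMap_apply A B T, IsScalarTower.algebraMap_apply A H T,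
      ← IsScalarTower.algebraMap_apply H T TL]
  haveI : IsScalarTower A L TL := IsScalarTower.of_algebraMap_eq fun x => by
    rw [IsScalarTower.algebraMap_apply A H TL, IsScalarTower.algebraMap_apply H L TL,
      IsScalarTower.algebraMap_apply A H L]
  haveI : IsScalarTower A T TL := IsScalarTower.of_algebraMap_eq fun x => by
    rw [IsScalarTower.algebraMap_apply A B TL, IsScalarTower.algebraMap_apply A B T]; rfl
  haveI : Algebra.IsPushout A L B TL :=
    (Algebra.IsPushout.comp_iff (R := A) (S := H) (R' := B) (S' := T) (T := L) (T' := TL)).2 inferInstance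
  let σ : T' →ₐ[A] TL := Algebra.pushoutDesc T' ((IsScalarTower.toAlgHom A L TL).comp (IsScalarTower.toAlgHom A A' L))
    (IsScalarTower.toAlgHom A B TL) fun _ _ => mul_comm _ _
  letI : Algebra T' TL := σ.toRingHom.toAlgebra
  letI : Algebra A' TL := ((algebraMap L TL).comp (algebraMap A' L)).toAlgebra
  haveI : IsScalarTower A' L TL := IsScalarTower.of_algebraMap_eq fun _ => rfl
  haveI : IsScalarTower A' T' TL := IsScalarTower.of_algebraMap_eq fun a => by
    show _ = σ (algebraMap A' T' a)
    rw [Algebra.pushoutDesc_left]; rfl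
  haveI : IsScalarTower B T' TL := IsScalarTower.of_algebraMap_eq fun b => by
    show _ = σ (algebraMap B T' b)
    rw [Algebra.pushoutDesc_right]; rfl
  haveI : IsScalarTower A T' TL := IsScalarTower.of_algebraMap_eq fun a => (σ.commutes a).symm
  haveI : Algebra.IsPushout A' L T' TL :=
    (Algebra.IsPushout.comp_iff (R := A) (S := A') (R' := B) (S' := T') (T := L) (T' := TL)).1 inferInstance
  letI : Algebra H Ω := (jT.comp (algebraMap H T)).toAlgebra
  let jL' : L →ₐ[H] Ω := ⟨jL, hH⟩
  let jT₀ : T →ₐ[H] Ω := ⟨jT, fun _ => rfl⟩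
  let ρ : TL →ₐ[H] Ω := Algebra.pushoutDesc TL jL' jT₀ fun _ _ => mul_comm _ _
  let Z : Ideal TL := RingHom.ker ρ.toRingHom
  haveI : Z.IsPrime := RingHom.ker_isPrime _
  have hρT : ρ.toRingHom.comp (algebraMap T TL) = jT := by
    ext t
    show ρ (algebraMap T TL t) = _
    rw [Algebra.pushoutDesc_right]
    rfl
  have hρL : ρ.toRingHom.comp (algebraMap L TL) = jL := by
    ext t
    show ρ (algebraMap L TL t) = _
    rw [Algebra.pushoutDesc_left]
    rfl
  have hZP : Z.comap (algebraMap T TL) = P := by rw [RingHom.comap_ker, hρT, hkT]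
  have hZm : Z.comap (algebraMap L TL) = maximalIdeal L := by rw [RingHom.comap_ker, hρL, hjL]
  have hρT' : ρ.toRingHom.comp (algebraMap T' TL) = jT' := by
    ext t
    obtain ⟨z, rfl⟩ := (Algebra.IsPushout.equiv A A' B T').surjective t
    induction z using TensorProduct.induction_on with
    | zero => simp
    | add x y hx hy => simp only [map_add, hx, hy]
    | tmul a b =>
      rw [Algebra.IsPushout.equiv_tmul, map_mul, map_mul]
      congr 1
      · rw [RingHom.comp_apply, ← IsScalarTower.algebraMap_apply A' T' TL, IsScalarTower.algebraMap_apply A' L TL,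
          ← hA']
        exact RingHom.congr_fun hρL _
      · rw [RingHom.comp_apply, ← IsScalarTower.algebraMap_apply B T' TL, IsScalarTower.algebraMap_apply B T TL,
          hjB]
        exact RingHom.congr_fun hρT _
  have hZP' : Z.comap (algebraMap T' TL) = P' := by rw [RingHom.comap_ker, hρT', hkT']
  refine map_eq_bot_of_point (T ⊗[B] M) P I hI hIfg L TL Z hZP hZm ?_
  let LZ := Localization.AtPrime Z
  haveI := flat_tensor_above (A := A) (A' := A') (L := L) (M := LocalizedModule q.primeCompl M) P' Z hZP' h
  have hu : ∀ b : q.primeCompl, IsUnit (algebraMap B LZ b) := fun b => by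
    rw [IsScalarTower.algebraMap_apply B TL LZ]
    refine IsLocalization.map_units LZ (⟨algebraMap B TL b, fun hb => b.2 ?_⟩ : Z.primeCompl)
    refine (SetLike.ext_iff.1 hPq b.1).1 ((SetLike.ext_iff.1 hZP _).1 ?_)
    rw [Ideal.mem_comap, ← IsScalarTower.algebraMap_apply B T TL]
    exact hb
  have huP : ∀ b : P.primeCompl, IsUnit (algebraMap T LZ b) := fun b => by
    rw [IsScalarTower.algebraMap_apply T TL LZ]
    exact IsLocalization.map_units LZ (⟨algebraMap T TL b, fun hb => b.2 ((SetLike.ext_iff.1 hZP b.1).1 hb)⟩ : Z.primeCompl)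
  obtain ⟨e₁⟩ := exists_tensor_localized_equiv (W := LZ) (M := M) q.primeCompl hu
  obtain ⟨e₂⟩ := exists_tensor_localized_equiv (W := LZ) (M := T ⊗[B] M) P.primeCompl huP
  exact Module.Flat.of_linearEquiv ((e₂.trans ((AlgebraTensorModule.cancelBaseChange B T LZ LZ M).trans e₁.symm)).restrictScalars L)

/-- A field point over a pair of primes with the same image. -/
theorem exists_common_point {B T' T : Type u} [CommRing B] [CommRing T'] [CommRing T] [Algebra B T'] [Algebra B T]
    (q : Ideal B) [q.IsPrime] (P' : Ideal T') [P'.IsPrime] [P'.LiesOver q] (P : Ideal T) [P.IsPrime] [P.LiesOver q] :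
    ∃ (Ω : Type u) (_ : Field Ω) (jT' : T' →+* Ω) (jT : T →+* Ω),
      (∀ b : B, jT' (algebraMap B T' b) = jT (algebraMap B T b)) ∧ RingHom.ker jT' = P' ∧ RingHom.ker jT = P := by
  obtain ⟨Z₀, hZ₀, hZP', hZP⟩ := Groth.Agent.RG.Pure.exists_prime_both q P' P
  haveI := hZ₀
  let W := T' ⊗[B] T
  let Ω := Z₀.ResidueField
  let jT' : T' →+* Ω := (algebraMap W Ω).comp Algebra.TensorProduct.includeLeftRingHom
  let jT : T →+* Ω := (algebraMap W Ω).comp (Algebra.TensorProduct.includeRight : T →ₐ[B] W).toRingHom
  refine ⟨Ω, inferInstance, jT', jT, fun b => ?_, ?_, ?_⟩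
  · show algebraMap W Ω (algebraMap B T' b ⊗ₜ[B] 1) = algebraMap W Ω (1 ⊗ₜ[B] algebraMap B T b)
    rw [Algebra.algebraMap_eq_smul_one b, Algebra.algebraMap_eq_smul_one b, ← TensorProduct.smul_tmul]
  · rw [← RingHom.comap_ker, Ideal.ker_algebraMap_residueField]; exact hZP'
  · rw [← RingHom.comap_ker, Ideal.ker_algebraMap_residueField]; exact hZP

/-- Flatness at a point from a single point of a base change along an injective local map. -/
theorem flat_at_of_one_point {A B : Type u} [CommRing A] [IsDomain A] [IsLocalRing A] [CommRing B] [Algebra A B]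
    [Algebra.FinitePresentation A B] (M : Type u) [AddCommGroup M] [Module B M] [Module A M] [IsScalarTower A B M]
    [Module.FinitePresentation B M] (q : Ideal B) [q.IsPrime] [q.LiesOver (maximalIdeal A)]
    (H : Type u) [CommRing H] [HenselianLocalRing H] [Algebra A H] [Module.Flat A H] [IsDomain H]
    [hover : (maximalIdeal H).LiesOver (maximalIdeal A)] [IsSepClosed (ResidueField H)]
    (A' T' : Type u) [CommRing A'] [IsLocalRing A'] [Algebra A A'] (hinj : Function.Injective (algebraMap A A'))
    [CommRing T'] [Algebra A T'] [Algebra A' T'] [Algebra B T'] [IsScalarTower A A' T'] [IsScalarTower A B T']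
    [Algebra.IsPushout A A' B T'] (P' : Ideal T') [P'.IsPrime] (hP'q : P'.comap (algebraMap B T') = q)
    (hP'm : P'.comap (algebraMap A' T') = maximalIdeal A')
    (h : Module.Flat A' (Localization.AtPrime P' ⊗[B] LocalizedModule q.primeCompl M)) :
    Module.Flat A (LocalizedModule q.primeCompl M) := by
  refine flat_at_of_henselian_key M (maximalIdeal A) q H ?_
  intro T _ _ _ _ _ _ _ P _ hPq hPm I hIfg hI
  haveI : P.LiesOver (maximalIdeal H) := ⟨hPm.symm⟩
  haveI : Algebra.FinitePresentation H T :=
    Algebra.FinitePresentation.equiv (Algebra.IsPushout.equiv A H B T)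
  haveI : IsScalarTower A H (T ⊗[B] M) := IsScalarTower.of_algebraMap_smul fun a x => by
    rw [← IsScalarTower.algebraMap_smul T (algebraMap A H a) x, ← IsScalarTower.algebraMap_apply A H T,
      algebraMap_smul]
  -- a common point
  haveI : P'.LiesOver q := ⟨hP'q.symm⟩
  haveI : P.LiesOver q := ⟨hPq.symm⟩
  obtain ⟨Ω, _, jT', jT, hjB, hkT', hkT⟩ := exists_common_point q P' P
  letI : Algebra A Ω := ((jT'.comp (algebraMap A' T')).comp (algebraMap A A')).toAlgebra
  let jA' : A' →ₐ[A] Ω := ⟨jT'.comp (algebraMap A' T'), fun _ => rfl⟩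
  let jH : H →ₐ[A] Ω := ⟨jT.comp (algebraMap H T), fun a => by
    show jT (algebraMap H T (algebraMap A H a)) = jT' (algebraMap A' T' (algebraMap A A' a))
    rw [← IsScalarTower.algebraMap_apply A H T, ← IsScalarTower.algebraMap_apply A A' T',
      IsScalarTower.algebraMap_apply A B T, IsScalarTower.algebraMap_apply A B T', hjB]⟩
  let jD : A' ⊗[A] H →ₐ[A] Ω := Algebra.TensorProduct.lift jA' jH fun _ _ => Commute.all _ _
  let pL : Ideal (A' ⊗[A] H) := RingHom.ker jD.toRingHom
  haveI : pL.IsPrime := RingHom.ker_isPrime _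
  have hpA' : pL.comap (algebraMap A' (A' ⊗[A] H)) = maximalIdeal A' := by
    rw [← hP'm, ← hkT', RingHom.comap_ker, RingHom.comap_ker]
    congr 1
    ext a
    show jD (a ⊗ₜ[A] 1) = _
    rw [Algebra.TensorProduct.lift_tmul, map_one, mul_one]
    rfl
  let L := Localization.AtPrime pL
  let ι : H →+* L := (algebraMap (A' ⊗[A] H) L).comp (Algebra.TensorProduct.includeRight : H →ₐ[A] A' ⊗[A] H).toRingHom
  have hιinj : Function.Injective ι := injective_localized_includeRight hinj pL hpA'
  letI : Algebra H L := ι.toAlgebra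
  haveI : IsLocalHom (algebraMap H L) := by
    refine ((IsLocalRing.local_hom_TFAE ι).out 0 4).2 ?_
    show (maximalIdeal L).comap ι = _
    rw [← Ideal.comap_comap, show (maximalIdeal L).comap (algebraMap (A' ⊗[A] H) L) = pL from
      Localization.AtPrime.comap_maximalIdeal, RingHom.comap_ker, ← hPm, ← hkT, RingHom.comap_ker]
    congr 1
    ext a
    show jD (1 ⊗ₜ[A] a) = _
    rw [Algebra.TensorProduct.lift_tmul, map_one, one_mul]
    rfl
  refine (Ideal.map_eq_bot_iff_of_injective hιinj).1 ?_
  haveI : IsScalarTower A A' L := inferInstance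
  haveI : IsScalarTower A H L := IsScalarTower.of_algebraMap_eq fun a => by
    rw [IsScalarTower.algebraMap_apply A (A' ⊗[A] H) L]
    show algebraMap (A' ⊗[A] H) L (algebraMap A A' a ⊗ₜ[A] 1) = algebraMap (A' ⊗[A] H) L ((1 : A') ⊗ₜ[A] algebraMap A H a)
    rw [Algebra.algebraMap_eq_smul_one a, Algebra.algebraMap_eq_smul_one a, ← TensorProduct.smul_tmul]
  let jL : L →+* Ω := IsLocalization.lift (M := pL.primeCompl) (S := L) (g := jD.toRingHom)
    fun d => isUnit_iff_ne_zero.2 d.2
  have hjL : RingHom.ker jL = maximalIdeal L := by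
    ext z
    obtain ⟨d, s, rfl⟩ := IsLocalization.exists_mk'_eq pL.primeCompl z
    rw [IsLocalization.AtPrime.mk'_mem_maximal_iff L pL, RingHom.mem_ker]
    show IsLocalization.lift (M := pL.primeCompl) (S := L) _ _ = 0 ↔ _
    rw [IsLocalization.lift_mk']
    simp [pL]
  exact map_eq_bot_at (A := A) (A' := A') (M := M) q P hPq I hI hIfg P' hP'q h L jT' jT hjB hkT' hkT jL hjL
    (fun a => by
      rw [IsScalarTower.algebraMap_apply A' (A' ⊗[A] H) L]
      show IsLocalization.lift (M := pL.primeCompl) (S := L) _ (algebraMap (A' ⊗[A] H) L (a ⊗ₜ[A] 1)) = _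
      rw [IsLocalization.lift_eq]
      show jD (a ⊗ₜ[A] 1) = _
      rw [Algebra.TensorProduct.lift_tmul, map_one, mul_one]; rfl)
    (fun a => by
      show IsLocalization.lift (M := pL.primeCompl) (S := L) _ (algebraMap (A' ⊗[A] H) L (1 ⊗ₜ[A] a)) = _
      rw [IsLocalization.lift_eq]
      show jD (1 ⊗ₜ[A] a) = _
      rw [Algebra.TensorProduct.lift_tmul, map_one, one_mul]; rfl)

end Groth.Agent.FlatDom
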