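import Mathlib
import Groth.Agent.FlatDom.Core
import Groth.Agent.FlatFam.Scheme
import Groth.Agent.FlatFam.Transfer

/-!
Scheme form of flatness detected by universally closed families.
-/

set_option autoImplicit false
set_option linter.style.haveILetI false
set_option backward.isDefEq.respectTransparency false

universe u

open CategoryTheory CategoryTheory.Limits AlgebraicGeometry TensorProduct
open Groth.Agent.RG.Dev.Corep

namespace Groth.Agent.FlatDom

/-- Flatness of the localisation of a base change, from the chart form. -/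
theorem flat_localized_of_tensor {B C T₀ T M : Type u} [CommRing B] [CommRing C] [CommRing T₀] [CommRing T]
    [Algebra B T₀] [Algebra C T₀] [Algebra B T] [Algebra C T] (e : T₀ ≃+* T)
    (heB : ∀ b, e (algebraMap B T₀ b) = algebraMap B T b) (heC : ∀ c, e (algebraMap C T₀ c) = algebraMap C T c)
    [AddCommGroup M] [Module B M] (q : Ideal B) [q.IsPrime] (Q : Ideal T) [Q.IsPrime]
    (hQ : Q.comap (algebraMap B T) = q)
    (P : Ideal T₀) [P.IsPrime] (hP : P = Q.comap (e : T₀ →+* T))
    (h : Module.Flat C (Localization.AtPrime P ⊗[B] LocalizedModule q.primeCompl M)) :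
    Module.Flat C (LocalizedModule Q.primeCompl (T ⊗[B] M)) := by
  let LP := Localization.AtPrime P
  let LQ := Localization.AtPrime Q
  letI : Algebra T₀ T := (e : T₀ →+* T).toAlgebra
  haveI : IsScalarTower T₀ T LQ := inferInstance
  haveI : IsScalarTower B T₀ LQ := IsScalarTower.of_algebraMap_eq fun b => by
    rw [IsScalarTower.algebraMap_apply T₀ T LQ]
    show _ = algebraMap T LQ (e (algebraMap B T₀ b))
    rw [heB, ← IsScalarTower.algebraMap_apply]
  haveI : IsScalarTower C T₀ LQ := IsScalarTower.of_algebraMap_eq fun c => by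
    rw [IsScalarTower.algebraMap_apply T₀ T LQ]
    show _ = algebraMap T LQ (e (algebraMap C T₀ c))
    rw [heC, ← IsScalarTower.algebraMap_apply]
  haveI : IsLocalization.AtPrime LQ P := by
    refine IsLocalization.of_ringEquiv_left (M₁ := Q.primeCompl) e ?_ fun x => IsScalarTower.algebraMap_apply T₀ T LQ x
    subst hP
    ext x
    constructor
    · rintro ⟨y, hy, rfl⟩
      exact hy
    · exact fun hx => ⟨e.symm x, fun h => hx (by
        have h' : e (e.symm x) ∈ Q := h
        rwa [e.apply_symm_apply] at h'), e.apply_symm_apply x⟩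
  -- multiplication by elements outside `q` is invertible
  let N := LocalizedModule q.primeCompl M
  let g : LQ ⊗[B] M →ₗ[LQ] LQ ⊗[B] N := AlgebraTensorModule.lTensor LQ LQ (LocalizedModule.mkLinearMap q.primeCompl M)
  haveI : IsLocalizedModule q.primeCompl (g.restrictScalars B) :=
    by
    let h₀ : M ⊗[B] LQ →ₗ[B] N ⊗[B] LQ := AlgebraTensorModule.rTensor B LQ (LocalizedModule.mkLinearMap q.primeCompl M)
    haveI : IsLocalizedModule q.primeCompl h₀ := inferInstanceAs (IsLocalizedModule q.primeCompl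
      (AlgebraTensorModule.rTensor B LQ (LocalizedModule.mkLinearMap q.primeCompl M)))
    haveI := IsLocalizedModule.of_linearEquiv q.primeCompl h₀ (TensorProduct.comm B N LQ)
    have heq : g.restrictScalars B = ((TensorProduct.comm B N LQ).toLinearMap ∘ₗ h₀) ∘ₗ (TensorProduct.comm B LQ M).toLinearMap := by
      apply TensorProduct.ext'
      intro a m
      rfl
    rw [heq]
    exact IsLocalizedModule.of_linearEquiv_right _ _ _
  have hu : ∀ b : q.primeCompl, IsUnit (algebraMap B LQ b) := fun b => by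
    rw [IsScalarTower.algebraMap_apply B T LQ]
    exact IsLocalization.map_units LQ (⟨algebraMap B T b, fun hb => b.2 ((SetLike.ext_iff.1 hQ b.1).1 hb)⟩ : Q.primeCompl)
  haveI : IsLocalizedModule q.primeCompl (LinearMap.id : LQ ⊗[B] M →ₗ[B] LQ ⊗[B] M) :=
    { map_units := fun b => by
        rw [Module.End.isUnit_iff]
        obtain ⟨v, hv⟩ := hu b
        have : (algebraMap B (Module.End B (LQ ⊗[B] M)) b : LQ ⊗[B] M → LQ ⊗[B] M) = fun y => (v : LQ) • y := by
          funext y
          rw [Module.algebraMap_end_apply, ← algebraMap_smul LQ (b : B) y, hv]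
        rw [this]
        exact ⟨fun a c h => (smul_left_cancel v) h, fun y => ⟨v⁻¹ • y, smul_inv_smul v y⟩⟩
      surj := fun z => ⟨(z, 1), by simp⟩
      exists_of_eq := fun h => ⟨1, by simpa using h⟩ }
  have hg : Function.Bijective g := by
    let E := IsLocalizedModule.linearEquiv q.primeCompl (LinearMap.id : LQ ⊗[B] M →ₗ[B] LQ ⊗[B] M) (g.restrictScalars B)
    have : (g : LQ ⊗[B] M → LQ ⊗[B] N) = E := funext fun z =>
      (IsLocalizedModule.linearEquiv_apply q.primeCompl (LinearMap.id : LQ ⊗[B] M →ₗ[B] LQ ⊗[B] M) (g.restrictScalars B) z).symm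
    rw [this]
    exact E.bijective
  let e₁ : LP ⊗[B] N ≃ₗ[C] LQ ⊗[B] N :=
    (AlgebraTensorModule.congr (IsLocalization.algEquiv P.primeCompl LP LQ).toLinearEquiv (LinearEquiv.refl B N)).restrictScalars C
  haveI := h
  haveI : Module.Flat C (LQ ⊗[B] N) := Module.Flat.of_linearEquiv e₁.symm
  haveI : Module.Flat C (LQ ⊗[B] M) := Module.Flat.of_linearEquiv ((LinearEquiv.ofBijective g hg).restrictScalars C)
  exact Module.Flat.of_linearEquiv (((IsLocalizedModule.isBaseChange Q.primeCompl LQ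
    (LocalizedModule.mkLinearMap Q.primeCompl (T ⊗[B] M))).equiv.symm.trans
    (AlgebraTensorModule.cancelBaseChange B T LQ LQ M)).restrictScalars C)

variable {X S S' : Scheme.{u}} (f : X ⟶ S) (g : S' ⟶ S)

/-- Flatness at the points over `x` and `s'` in terms of an abstract pushout. -/
theorem flat_localized_of_isFlatOverAt (F : X.Modules) (hF : Coh.IsQCoh F) (x : X) {V : S.Opens} (hV : IsAffineOpen V)
    {W : X.Opens} (hW : IsAffineOpen W) (e : W ≤ f ⁻¹ᵁ V) (hxW : x ∈ W) {O : S'.Opens} (hO : IsAffineOpen O)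
    (eO : O ≤ g ⁻¹ᵁ V) (s' : S') (hs' : s' ∈ O)
    (h : ∀ x' : ↥(pullback f g), pullback.fst f g x' = x → pullback.snd f g x' = s' →
      FlatMod.IsFlatOverAt (pullback.snd f g) ((Scheme.Modules.pullback (pullback.fst f g)).obj F) x')
    (T : Type u) [CommRing T] :
    letI : Algebra Γ(S, V) Γ(X, W) := (f.appLE V W e).hom.toAlgebra
    letI : Algebra Γ(S, V) Γ(S', O) := (g.appLE V O eO).hom.toAlgebra
    ∀ [Algebra Γ(S', O) T] [Algebra Γ(X, W) T] [Algebra Γ(S, V) T] [IsScalarTower Γ(S, V) Γ(S', O) T]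
      [IsScalarTower Γ(S, V) Γ(X, W) T] [Algebra.IsPushout Γ(S, V) Γ(S', O) Γ(X, W) T] (Q : Ideal T) [Q.IsPrime],
      Q.comap (algebraMap Γ(X, W) T) = (hW.primeIdealOf ⟨x, hxW⟩).asIdeal →
      Q.comap (algebraMap Γ(S', O) T) = (hO.primeIdealOf ⟨s', hs'⟩).asIdeal →
      Module.Flat Γ(S', O) (LocalizedModule Q.primeCompl (T ⊗[Γ(X, W)] Γ(F, W))) := by
  intro _ _ _ _ _ _ Q _ hQq hQc
  let g' := pullback.fst f g
  let f' := pullback.snd f g
  have hc : IsPullback g' f' f g := IsPullback.of_hasPullback f g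
  let W' : (pullback f g).Opens := g' ⁻¹ᵁ W ⊓ f' ⁻¹ᵁ O
  have hW' : IsAffineOpen W' := by
    haveI : IsAffine _ := hV
    haveI : IsAffine _ := hW
    haveI : IsAffine _ := hO
    exact .of_isIso (Scheme.Hom.isPullback_resLE hc eO e (rfl : W' = _)).isoPullback.hom
  have hP := (isIso_pushoutSection_iff hc eO e (rfl : W' = _)).1
    (isIso_pushoutSection_of_isAffineOpen hc eO e rfl hV hO hW)
  let A := Γ(S, V)
  let B := Γ(X, W)
  let C := Γ(S', O)
  let T₀ := Γ(pullback f g, W')
  letI : Algebra A B := (f.appLE V W e).hom.toAlgebra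
  letI : Algebra A C := (g.appLE V O eO).hom.toAlgebra
  letI : Algebra B T₀ := (g'.appLE W W' inf_le_left).hom.toAlgebra
  letI : Algebra C T₀ := (f'.appLE O W' inf_le_right).hom.toAlgebra
  letI : Algebra A T₀ := ((algebraMap B T₀).comp (algebraMap A B)).toAlgebra
  haveI : IsScalarTower A B T₀ := IsScalarTower.of_algebraMap_eq fun _ => rfl
  haveI : IsScalarTower A C T₀ := IsScalarTower.of_algebraMap_eq fun a => congr($(hP.w).hom a)
  haveI : Algebra.IsPushout A B C T₀ := CommRingCat.isPushout_iff_isPushout.1 hP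
  haveI : Algebra.IsPushout A C B T₀ := Algebra.IsPushout.symm inferInstance
  let ε : T₀ ≃ₐ[C] T := (Algebra.IsPushout.equiv A C B T₀).symm.trans (Algebra.IsPushout.equiv A C B T)
  have hεB : ∀ b, ε (algebraMap B T₀ b) = algebraMap B T b := fun b => by
    show Algebra.IsPushout.equiv A C B T ((Algebra.IsPushout.equiv A C B T₀).symm (algebraMap B T₀ b)) = _
    rw [Algebra.IsPushout.equiv_symm_algebraMap_right, Algebra.IsPushout.equiv_tmul]
    simp
  let P : PrimeSpectrum T₀ := PrimeSpectrum.comap (ε.toRingEquiv : T₀ →+* T) ⟨Q, ‹_›⟩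
  have hPB : PrimeSpectrum.comap (algebraMap B T₀) P = hW.primeIdealOf ⟨x, hxW⟩ := by
    apply PrimeSpectrum.ext
    rw [← hQq]
    show Ideal.comap _ (Ideal.comap _ Q) = _
    rw [Ideal.comap_comap]
    congr 1
    exact RingHom.ext hεB
  have hPC : PrimeSpectrum.comap (algebraMap C T₀) P = hO.primeIdealOf ⟨s', hs'⟩ := by
    apply PrimeSpectrum.ext
    rw [← hQc]
    show Ideal.comap _ (Ideal.comap _ Q) = _
    rw [Ideal.comap_comap]
    congr 1
    exact RingHom.ext ε.commutes
  have hgP : g' (hW'.fromSpec P) = x :=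
    (congr($(hW.SpecMap_appLE_fromSpec g' hW' inf_le_left).base P)).symm.trans
      ((congrArg _ hPB).trans (hW.fromSpec_primeIdealOf _))
  have hfP : f' (hW'.fromSpec P) = s' :=
    (congr($(hO.SpecMap_appLE_fromSpec f' hW' inf_le_right).base P)).symm.trans
      ((congrArg _ hPC).trans (hO.fromSpec_primeIdealOf _))
  obtain ⟨hmem, hpt⟩ := Groth.Agent.InjFibre.primeIdealOf_fromSpec hW' P
  have h3 := FlatFam.flat_tensor_of_isFlatOverAt hc F hF hW e hO (hW'.fromSpec P) hmem.1 hmem.2 hW'
    (hW.primeIdealOf ⟨x, hxW⟩) (by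
      apply hW.fromSpec.isOpenEmbedding.injective
      show hW.fromSpec _ = hW.fromSpec _
      rw [hW.fromSpec_primeIdealOf, hW.fromSpec_primeIdealOf]
      exact hgP) (h _ hgP hfP)
  exact flat_localized_of_tensor (C := C) ε.toRingEquiv hεB ε.commutes _ Q hQq _ (congrArg PrimeSpectrum.asIdeal hpt) h3

/-- Sections along a morphism factoring through the spectrum of an affine open. -/
theorem appLE_fromSpec {Y : Scheme.{u}} {V : Y.Opens} (hV : IsAffineOpen V) {R : CommRingCat.{u}}
    (φ : Γ(Y, V) ⟶ R) (e : (⊤ : (Spec R).Opens) ≤ (Spec.map φ ≫ hV.fromSpec) ⁻¹ᵁ V) :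
    (Spec.map φ ≫ hV.fromSpec).appLE V ⊤ e = φ ≫ (Scheme.ΓSpecIso R).inv := by
  rw [Scheme.Hom.comp_appLE, hV.fromSpec_app_self]
  simp only [Category.assoc]
  erw [Scheme.Hom.map_appLE]
  have h : (Spec.map φ).appLE ⊤ ⊤ le_top = (Spec.map φ).appTop := Scheme.Hom.appLE_eq_app _
  rw [h, ← Scheme.ΓSpecIso_inv_naturality]

/-- Points over a prime with a test morphism into the family. -/
theorem ptsFlat_of_isFlatOverAt {X Y Y' : Scheme.{u}} (f : X ⟶ Y) (F : X.Modules) (hF : Coh.IsQCoh F) (x : X)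
    {V : Y.Opens} (hV : IsAffineOpen V) {W : X.Opens} (hW : IsAffineOpen W) (e : W ≤ f ⁻¹ᵁ V) (hxW : x ∈ W)
    (gY : Y' ⟶ Y) (R : Type u) [CommRing R] [IsLocalRing R] [Algebra Γ(Y, V) R] (r : Spec (CommRingCat.of R) ⟶ Y')
    (hflat : ∀ x' : ↥(pullback f gY), pullback.fst f gY x' = x →
      pullback.snd f gY x' = r (IsLocalRing.closedPoint R) →
      FlatMod.IsFlatOverAt (pullback.snd f gY) ((Scheme.Modules.pullback (pullback.fst f gY)).obj F) x')
    (hr : r ≫ gY = Spec.map (CommRingCat.ofHom (algebraMap Γ(Y, V) R)) ≫ hV.fromSpec) (T : Type u) [CommRing T] :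
    letI : Algebra Γ(Y, V) Γ(X, W) := (f.appLE V W e).hom.toAlgebra
    ∀ [Algebra R T] [Algebra Γ(X, W) T] [Algebra Γ(Y, V) T] [IsScalarTower Γ(Y, V) R T]
      [IsScalarTower Γ(Y, V) Γ(X, W) T] [Algebra.IsPushout Γ(Y, V) R Γ(X, W) T],
      PtsFlat R T (hW.primeIdealOf ⟨x, hxW⟩).asIdeal (T ⊗[Γ(X, W)] Γ(F, W)) := by
  intro _ _ _ _ _ hpo Q _ hQq hQm
  let A := Γ(Y, V)
  let B := Γ(X, W)
  letI : Algebra A B := (f.appLE V W e).hom.toAlgebra
  let S' := Spec (CommRingCat.of R)
  let φ : Γ(Y, V) ⟶ CommRingCat.of R := CommRingCat.ofHom (algebraMap A R)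
  let g₂ : S' ⟶ Y := Spec.map φ ≫ hV.fromSpec
  let O : S'.Opens := ⊤
  have hO : IsAffineOpen O := isAffineOpen_top S'
  have eO : O ≤ g₂ ⁻¹ᵁ V := fun z _ => by
    show hV.fromSpec _ ∈ V
    exact (le_of_eq hV.range_fromSpec : _) ⟨_, rfl⟩
  let eC := (Scheme.ΓSpecIso (CommRingCat.of R)).commRingCatIsoToRingEquiv
  let C := Γ(S', O)
  letI : Algebra A C := (g₂.appLE V O eO).hom.toAlgebra
  letI : Algebra C T := ((algebraMap R T).comp (eC : C →+* R)).toAlgebra
  have hAC : ∀ a, eC (algebraMap A C a) = algebraMap A R a := fun a => by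
    have h1 : (g₂.appLE V O eO) a = eC.symm (algebraMap A R a) := congr($(appLE_fromSpec hV φ eO).hom a)
    show eC ((g₂.appLE V O eO) a) = _
    rw [h1, RingEquiv.apply_symm_apply]
  haveI : IsScalarTower A C T := IsScalarTower.of_algebraMap_eq fun a => by
    show _ = algebraMap R T (eC (algebraMap A C a))
    rw [hAC, ← IsScalarTower.algebraMap_apply]
  haveI : Algebra.IsPushout A C B T := by
    have h1 := CommRingCat.isPushout_iff_isPushout.2 hpo
    refine CommRingCat.isPushout_iff_isPushout.1 (h1.of_iso (Iso.refl _) (Scheme.ΓSpecIso (CommRingCat.of R)).symm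
      (Iso.refl _) (Iso.refl _) ?_ ?_ ?_ ?_)
    · ext a
      exact congr($(appLE_fromSpec hV φ eO).hom a).symm
    · rfl
    · ext c
      exact congrArg (algebraMap R T) (eC.apply_symm_apply c).symm
    · rfl
  haveI : IsLocalRing C := eC.symm.isLocalRing
  let s' : S' := IsLocalRing.closedPoint R
  have hs' : IsClosed ({s'} : Set S') :=
    (PrimeSpectrum.isClosed_singleton_iff_isMaximal _).2 (IsLocalRing.maximalIdeal.isMaximal _)
  have hQc : Q.comap (algebraMap C T) = (hO.primeIdealOf ⟨s', trivial⟩).asIdeal := by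
    refine Eq.trans (b := IsLocalRing.maximalIdeal C) ?_
      (IsLocalRing.eq_maximalIdeal (hO.primeIdealOf_isMaximal_of_isClosed ⟨s', trivial⟩ hs')).symm
    show Q.comap ((algebraMap R T).comp (eC : C →+* R)) = _
    rw [← Ideal.comap_comap, hQm]
    haveI : ((IsLocalRing.maximalIdeal R).comap (eC : C →+* R)).IsMaximal :=
      Ideal.comap_isMaximal_of_surjective _ eC.surjective
    exact IsLocalRing.eq_maximalIdeal inferInstance
  have hflC : Module.Flat C (LocalizedModule Q.primeCompl (T ⊗[B] Γ(F, W))) :=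
    flat_localized_of_isFlatOverAt f g₂ F hF x hV hW e hxW hO eO s' trivial
      (fun x' hx' hs => FlatFam.isFlatOverAt_factor f gY r g₂ hr F x' (hflat _ (by
        rw [← Scheme.Hom.comp_apply, FlatFam.baseMap_fst]; exact hx') (by
        rw [← Scheme.Hom.comp_apply, FlatFam.baseMap_snd, Scheme.Hom.comp_apply]; exact congrArg _ hs))) T Q hQq hQc
  letI : Algebra R C := (eC.symm : R →+* C).toAlgebra
  haveI : IsScalarTower R C T := IsScalarTower.of_algebraMap_eq fun a => by
    show _ = algebraMap R T (eC (eC.symm a))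
    rw [eC.apply_symm_apply]
  haveI : Module.Flat R C := RingHom.Flat.of_bijective eC.symm.bijective
  haveI : IsScalarTower R C (LocalizedModule Q.primeCompl (T ⊗[B] Γ(F, W))) :=
    IsScalarTower.of_algebraMap_smul fun a m => by
      rw [← IsScalarTower.algebraMap_smul T (algebraMap R C a) m, ← IsScalarTower.algebraMap_apply, algebraMap_smul]
  exact Module.Flat.trans R C _

/-- Flatness at a point detected on a universally closed family which is schematically dominant at its image. -/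
theorem isFlatOverAt_of_family {X Y Y' : Scheme.{u}} (f : X ⟶ Y) [LocallyOfFinitePresentation f] (F : X.Modules)
    (hF : Coh.IsQCoh F) (hfp : CohB1.IsFP F) (x : X) {V : Y.Opens} (hV : IsAffineOpen V) (hyV : f x ∈ V)
    (π : Y' ⟶ Spec Γ(Y, V)) [QuasiCompact π]
    [UniversallyClosed (pullback.snd π (Spec.map (CommRingCat.ofHom
      (algebraMap Γ(Y, V) (Localization.AtPrime (hV.primeIdealOf ⟨f x, hyV⟩).asIdeal)))))]
    (gY : Y' ⟶ Y) (hgY : π ≫ hV.fromSpec = gY)
    (hinj : ∀ a : Γ(Y, V), π.appTop ((Scheme.ΓSpecIso Γ(Y, V)).inv a) = 0 →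
      ∃ s ∉ (hV.primeIdealOf ⟨f x, hyV⟩).asIdeal, s * a = 0)
    (hflat : ∀ x' : ↥(pullback f gY), pullback.fst f gY x' = x →
      FlatMod.IsFlatOverAt (pullback.snd f gY) ((Scheme.Modules.pullback (pullback.fst f gY)).obj F) x') :
    FlatMod.IsFlatOverAt f F x := by
  obtain ⟨W, hW, hxW, e⟩ := exists_isAffineOpen_mem_and_subset (X := X) (x := x) (U := f ⁻¹ᵁ V) hyV
  let A := Γ(Y, V)
  let B := Γ(X, W)
  letI : Algebra A B := (f.appLE V W e).hom.toAlgebra
  haveI : Algebra.FinitePresentation A B := f.finitePresentation_appLE hV hW e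
  letI : Module A Γ(F, W) := Module.compHom Γ(F, W) (f.appLE V W e).hom
  haveI : IsScalarTower A B Γ(F, W) := IsScalarTower.of_algebraMap_smul fun _ _ => rfl
  haveI := LocFree.finitePresentation_sections_of_isFP hF hfp hW
  refine (Groth.Agent.InjFibre.isFlatOverAt_iff f F hF hV hW e x hxW).2 ?_
  let p := (hV.primeIdealOf ⟨f x, hyV⟩).asIdeal
  haveI : (hW.primeIdealOf ⟨x, hxW⟩).asIdeal.LiesOver p := ⟨by
    have h1 : PrimeSpectrum.comap (algebraMap A B) (hW.primeIdealOf ⟨x, hxW⟩) = hV.primeIdealOf ⟨f x, hyV⟩ := by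
      apply hV.fromSpec.isOpenEmbedding.injective
      show hV.fromSpec _ = hV.fromSpec _
      rw [hV.fromSpec_primeIdealOf]
      refine (congr($(hV.SpecMap_appLE_fromSpec f hW e).base (hW.primeIdealOf ⟨x, hxW⟩))).trans ?_
      exact congrArg f.base (hW.fromSpec_primeIdealOf _)
    exact (congrArg PrimeSpectrum.asIdeal h1).symm⟩
  refine flat_at_of_family (A := A) (B := B) Γ(F, W) p _ π hinj ?_
  intro R _ _ _ r hr _ T _ _ _ _ _ _ _
  exact ptsFlat_of_isFlatOverAt f F hF x hV hW e hxW gY R r (fun x' hx' _ => hflat x' hx') (by rw [← hgY, ← Category.assoc, hr]) T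

end Groth.Agent.FlatDom
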