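import Mathlib
import Groth.Agent.FlatDom.Scheme
import Groth.Agent.FlatDom.PrimaryAt

/-!
Flatness of a pulled back module at a point in terms of a chart, in both directions.
-/

set_option autoImplicit false
set_option linter.style.haveILetI false
set_option backward.isDefEq.respectTransparency false

universe u

open CategoryTheory CategoryTheory.Limits AlgebraicGeometry TensorProduct

namespace Groth.Agent.FlatDom

variable {X S X' S' : Scheme.{u}} {f : X ⟶ S} {f' : X' ⟶ S'} {g' : X' ⟶ X} {g : S' ⟶ S}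

/-- Flatness of a pulled back module at a point of a chart, as flatness of a localised tensor product. -/
theorem isFlatOverAt_iff_chart (hc : IsPullback g' f' f g) (F : X.Modules) (hq : Coh.IsQCoh F)
    {W : X.Opens} (hW : IsAffineOpen W) {O : S'.Opens} (hO : IsAffineOpen O) (x' : X') (hxW : g' x' ∈ W)
    (hxO : f' x' ∈ O) (hW' : IsAffineOpen (g' ⁻¹ᵁ W ⊓ f' ⁻¹ᵁ O)) :
    letI : Algebra Γ(X, W) Γ(X', g' ⁻¹ᵁ W ⊓ f' ⁻¹ᵁ O) := (g'.appLE W _ inf_le_left).hom.toAlgebra
    letI : Algebra Γ(S', O) Γ(X', g' ⁻¹ᵁ W ⊓ f' ⁻¹ᵁ O) := (f'.appLE O _ inf_le_right).hom.toAlgebra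
    FlatMod.IsFlatOverAt f' ((Scheme.Modules.pullback g').obj F) x' ↔
      Module.Flat Γ(S', O) (Localization.AtPrime (hW'.primeIdealOf ⟨x', hxW, hxO⟩).asIdeal ⊗[Γ(X, W)]
        LocalizedModule (hW.primeIdealOf ⟨g' x', hxW⟩).asIdeal.primeCompl Γ(F, W)) := by
  let B := Γ(X, W)
  let C := Γ(S', O)
  let W' : X'.Opens := g' ⁻¹ᵁ W ⊓ f' ⁻¹ᵁ O
  let B' := Γ(X', W')
  have hxW' : x' ∈ W' := ⟨hxW, hxO⟩
  letI : Algebra B B' := (g'.appLE W W' inf_le_left).hom.toAlgebra
  letI : Algebra C B' := (f'.appLE O W' inf_le_right).hom.toAlgebra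
  let P := (hW'.primeIdealOf ⟨x', hxW'⟩).asIdeal
  let LP := Localization.AtPrime P
  let R := X.presheaf.stalk (g' x')
  let L := X'.presheaf.stalk x'
  let N : Type u := F.presheaf.stalk (g' x')
  letI : Algebra B R := (X.presheaf.germ W (g' x') hxW).hom.toAlgebra
  haveI : IsLocalization.AtPrime R (hW.primeIdealOf ⟨g' x', hxW⟩).asIdeal := hW.isLocalization_stalk ⟨_, hxW⟩
  letI : Algebra B' L := (X'.presheaf.germ W' x' hxW').hom.toAlgebra
  haveI : IsLocalization.AtPrime L P := hW'.isLocalization_stalk ⟨_, hxW'⟩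
  letI : Algebra R L := (g'.stalkMap x').hom.toAlgebra
  letI : Algebra B L := ((algebraMap B' L).comp (algebraMap B B')).toAlgebra
  haveI : IsScalarTower B B' L := IsScalarTower.of_algebraMap_eq fun _ => rfl
  haveI : IsScalarTower B R L := IsScalarTower.of_algebraMap_eq fun b =>
    (FibCrit.germ_comm g' W W' inf_le_left x' hxW' b).symm
  letI : Algebra C L := ((algebraMap B' L).comp (algebraMap C B')).toAlgebra
  haveI : IsScalarTower C B' L := IsScalarTower.of_algebraMap_eq fun _ => rfl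
  letI : Module B N := Module.compHom N (X.presheaf.germ W (g' x') hxW).hom
  haveI : IsScalarTower B R N := IsScalarTower.of_algebraMap_smul fun _ _ => rfl
  obtain ⟨eRB⟩ := FlatModBC.exists_equiv_of_localization (R := R) (L := L)
    (hW.primeIdealOf ⟨g' x', hxW⟩).asIdeal.primeCompl N
  let eP : ((Scheme.Modules.pullback g').obj F).presheaf.stalk x' ≃ₗ[L] L ⊗[R] N :=
    ((KFlat.pullStalkIso g' x').app F).toLinearEquiv
  rw [FlatModB.isFlatOverAt_iff f' _ x' hO hxO]
  letI := FlatModB.stalkModule f' ((Scheme.Modules.pullback g').obj F) x' O hxO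
  haveI : IsScalarTower C L (((Scheme.Modules.pullback g').obj F).presheaf.stalk x') :=
    IsScalarTower.of_algebraMap_smul fun c m => by
      show ((X'.presheaf.germ W' x' hxW').hom ((f'.appLE O W' inf_le_right).hom c)) • m = _
      rw [← FibCrit.germ_comm f' O W' inf_le_right x' hxW' c]
      rfl
  obtain ⟨gN, hgN⟩ := LocFree.exists_stalkMap hW hq hxW
  haveI := hgN
  let eN : LocalizedModule (hW.primeIdealOf ⟨g' x', hxW⟩).asIdeal.primeCompl Γ(F, W) ≃ₗ[B] N :=
    IsLocalizedModule.iso _ gN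
  let eL : LP ≃ₗ[B'] L := (IsLocalization.algEquiv P.primeCompl LP L).toLinearEquiv
  let e₁ := ((eP.trans eRB.symm).restrictScalars C).trans
    ((AlgebraTensorModule.congr eL eN).restrictScalars C).symm
  exact ⟨fun h => haveI := h; Module.Flat.of_linearEquiv e₁.symm,
    fun h => haveI := h; Module.Flat.of_linearEquiv e₁⟩

/-- The same with the base change of the module localised at the point. -/
theorem isFlatOverAt_iff_localized (hc : IsPullback g' f' f g) (F : X.Modules) (hq : Coh.IsQCoh F)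
    {W : X.Opens} (hW : IsAffineOpen W) {O : S'.Opens} (hO : IsAffineOpen O) (x' : X') (hxW : g' x' ∈ W)
    (hxO : f' x' ∈ O) (hW' : IsAffineOpen (g' ⁻¹ᵁ W ⊓ f' ⁻¹ᵁ O)) :
    letI : Algebra Γ(X, W) Γ(X', g' ⁻¹ᵁ W ⊓ f' ⁻¹ᵁ O) := (g'.appLE W _ inf_le_left).hom.toAlgebra
    letI : Algebra Γ(S', O) Γ(X', g' ⁻¹ᵁ W ⊓ f' ⁻¹ᵁ O) := (f'.appLE O _ inf_le_right).hom.toAlgebra
    FlatMod.IsFlatOverAt f' ((Scheme.Modules.pullback g').obj F) x' ↔
      Module.Flat Γ(S', O) (LocalizedModule (hW'.primeIdealOf ⟨x', hxW, hxO⟩).asIdeal.primeCompl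
        (Γ(X', g' ⁻¹ᵁ W ⊓ f' ⁻¹ᵁ O) ⊗[Γ(X, W)] Γ(F, W))) := by
  let B := Γ(X, W)
  let C := Γ(S', O)
  let W' : X'.Opens := g' ⁻¹ᵁ W ⊓ f' ⁻¹ᵁ O
  let B' := Γ(X', W')
  letI : Algebra B B' := (g'.appLE W W' inf_le_left).hom.toAlgebra
  letI : Algebra C B' := (f'.appLE O W' inf_le_right).hom.toAlgebra
  let P := (hW'.primeIdealOf ⟨x', hxW, hxO⟩).asIdeal
  let q := (hW.primeIdealOf ⟨g' x', hxW⟩).asIdeal
  let LP := Localization.AtPrime P
  have hPq : P.comap (algebraMap B B') = q := by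
    refine congrArg PrimeSpectrum.asIdeal (?_ : PrimeSpectrum.comap (algebraMap B B') (hW'.primeIdealOf ⟨x', hxW, hxO⟩) = hW.primeIdealOf ⟨g' x', hxW⟩)
    apply hW.fromSpec.isOpenEmbedding.injective
    show hW.fromSpec _ = hW.fromSpec _
    rw [hW.fromSpec_primeIdealOf]
    refine (congr($(hW.SpecMap_appLE_fromSpec g' hW' inf_le_left).base (hW'.primeIdealOf ⟨x', hxW, hxO⟩))).trans ?_
    show g' (hW'.fromSpec _) = g' x'
    rw [hW'.fromSpec_primeIdealOf]
  have hu : ∀ b : q.primeCompl, IsUnit (algebraMap B LP b) := fun b => by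
    rw [IsScalarTower.algebraMap_apply B B' LP]
    exact IsLocalization.map_units LP (⟨algebraMap B B' b, fun hb => b.2 ((SetLike.ext_iff.1 hPq b.1).1 hb)⟩ : P.primeCompl)
  obtain ⟨e₁⟩ := exists_tensor_localized_equiv (W := LP) (M := Γ(F, W)) q.primeCompl hu
  let e₂ : LocalizedModule P.primeCompl (B' ⊗[B] Γ(F, W)) ≃ₗ[LP] LP ⊗[B] Γ(F, W) :=
    (IsLocalizedModule.isBaseChange P.primeCompl LP
      (LocalizedModule.mkLinearMap P.primeCompl (B' ⊗[B] Γ(F, W)))).equiv.symm.trans
      (AlgebraTensorModule.cancelBaseChange B B' LP LP Γ(F, W))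
  let e₃ := (e₁.trans e₂.symm).restrictScalars C
  rw [isFlatOverAt_iff_chart hc F hq hW hO x' hxW hxO hW']
  exact ⟨fun h => haveI := h; Module.Flat.of_linearEquiv e₃.symm, fun h => haveI := h; Module.Flat.of_linearEquiv e₃⟩

/-- Flatness at the points over two primes, in terms of the local ring downstairs. -/
theorem ptsFlat_iff_points {C T₀ R' T₁ N : Type u} [CommRing C] [CommRing T₀] [Algebra C T₀] [CommRing R']
    [IsLocalRing R'] [Algebra C R'] (pt : Ideal C) [pt.IsPrime] [IsLocalization.AtPrime R' pt] {B : Type u}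
    [CommRing B] [Algebra B T₀] [CommRing T₁] [Algebra C T₁] [Algebra R' T₁] [Algebra T₀ T₁] [Algebra B T₁]
    [IsScalarTower C R' T₁] [IsScalarTower C T₀ T₁] [IsScalarTower B T₀ T₁] [Algebra.IsPushout C R' T₀ T₁]
    [AddCommGroup N] [Module T₀ N] [Module C N] [IsScalarTower C T₀ N] (q : Ideal B) :
    Groth.Agent.RG.Dev.Corep.PtsFlat R' T₁ q (T₁ ⊗[T₀] N) ↔
      ∀ (P : Ideal T₀) [P.IsPrime], P.comap (algebraMap B T₀) = q → P.comap (algebraMap C T₀) = pt →
        Module.Flat C (LocalizedModule P.primeCompl N) := by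
  haveI : Algebra.IsPushout C T₀ R' T₁ := Algebra.IsPushout.symm inferInstance
  haveI : Module.Flat C R' := IsLocalization.flat R' pt.primeCompl
  haveI : Module.Flat T₀ T₁ := Module.Flat.isBaseChange C T₀ R' T₁ (Algebra.IsPushout.out (S := T₀))
  let g := TensorProduct.mk T₀ T₁ N 1
  have hg : IsBaseChange T₁ g := TensorProduct.isBaseChange _ _ _
  have hmax : (IsLocalRing.maximalIdeal R').comap (algebraMap C R') = pt :=
    IsLocalization.AtPrime.under_maximalIdeal R' pt
  haveI : IsScalarTower C R' (T₁ ⊗[T₀] N) := IsScalarTower.of_algebraMap_smul fun a x => by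
    rw [← IsScalarTower.algebraMap_smul T₁ (algebraMap C R' a) x, ← IsScalarTower.algebraMap_apply C R' T₁,
      algebraMap_smul]
  have key : ∀ (Q : Ideal T₁) [Q.IsPrime],
      Module.Flat R' (LocalizedModule Q.primeCompl (T₁ ⊗[T₀] N)) ↔
        Module.Flat C (LocalizedModule (Q.comap (algebraMap T₀ T₁)).primeCompl N) := fun Q _ => by
    haveI : IsScalarTower C R' (LocalizedModule Q.primeCompl (T₁ ⊗[T₀] N)) :=
      IsScalarTower.of_algebraMap_smul fun a m => by
        rw [← IsScalarTower.algebraMap_smul T₁ (algebraMap C R' a) m, ← IsScalarTower.algebraMap_apply, algebraMap_smul]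
    rw [Module.flat_iff_of_isLocalization R' pt.primeCompl (LocalizedModule Q.primeCompl (T₁ ⊗[T₀] N))]
    exact (Groth.Agent.RG.Dev.flat_point_iff (R := C) (S := T₀) (S' := T₁) (C := T₁) (G := T₁ ⊗[T₀] N) g hg
      Function.surjective_id (Q.comap (algebraMap T₀ T₁)) Q Q rfl (Ideal.comap_id Q)).symm
  constructor
  · intro h P _ hPq hPc
    haveI : P.LiesOver pt := ⟨hPc.symm⟩
    haveI : (IsLocalRing.maximalIdeal R').LiesOver pt := ⟨hmax.symm⟩
    obtain ⟨s, hs, hsT, hsR⟩ := Groth.Agent.RG.Pure.exists_prime_both pt P (IsLocalRing.maximalIdeal R')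
    haveI := hs
    let E := Algebra.IsPushout.equiv C T₀ R' T₁
    let Q : Ideal T₁ := Ideal.comap (E.symm : T₁ →+* T₀ ⊗[C] R') s
    have hQP : Q.comap (algebraMap T₀ T₁) = P := by
      rw [Ideal.comap_comap, ← hsT]
      congr 1
      exact RingHom.ext fun b => E.symm.commutes b
    have hQm : Q.comap (algebraMap R' T₁) = IsLocalRing.maximalIdeal R' := by
      rw [Ideal.comap_comap, ← hsR]
      congr 1
      ext a
      exact Algebra.IsPushout.equiv_symm_algebraMap_right C T₀ R' T₁ a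
    haveI : Q.IsPrime := Ideal.IsPrime.comap _
    have h1 := (key Q).1 (h Q (by rw [IsScalarTower.algebraMap_eq B T₀ T₁, ← Ideal.comap_comap, hQP, hPq]) hQm)
    subst hQP
    exact h1
  · intro h Q _ hQq hQm
    refine (key Q).2 (h _ ?_ ?_)
    · rw [Ideal.comap_comap, ← IsScalarTower.algebraMap_eq]; exact hQq
    · rw [Ideal.comap_comap, ← IsScalarTower.algebraMap_eq, IsScalarTower.algebraMap_eq C R' T₁, ← Ideal.comap_comap,
        hQm, hmax]

end Groth.Agent.FlatDom
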