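import Mathlib
import Groth.Agent.DvrDom.Basic

/-!
Discrete valuation rings under a noetherian local ring with prescribed kernel.
-/

set_option autoImplicit false
set_option linter.style.haveILetI false

universe u

open IsLocalRing

namespace Groth.Agent.FlatDom

/-- Every prime of a noetherian local ring is the kernel of a local map to a discrete valuation ring. -/
theorem exists_dvr_ker (A : Type u) [CommRing A] [IsNoetherianRing A] [IsLocalRing A] (P : Ideal A) [P.IsPrime] :
    ∃ (V : Type u) (_ : CommRing V) (_ : IsDomain V) (_ : IsDiscreteValuationRing V) (φ : A →+* V),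
      IsLocalHom φ ∧ RingHom.ker φ = P := by
  let A' := A ⧸ P
  haveI : IsLocalRing A' := IsLocalRing.of_surjective' _ Ideal.Quotient.mk_surjective
  haveI : IsLocalHom (Ideal.Quotient.mk P) := IsLocalHom.of_surjective _ Ideal.Quotient.mk_surjective
  by_cases hA : IsField A'
  · letI := hA.toField
    refine ⟨PowerSeries A', inferInstance, inferInstance, inferInstance, PowerSeries.C.comp (Ideal.Quotient.mk P), ?_, ?_⟩
    · refine ⟨fun a ha => ?_⟩
      refine IsUnit.of_map (Ideal.Quotient.mk P) _ ?_
      have h1 := PowerSeries.isUnit_constantCoeff _ ha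
      rwa [RingHom.comp_apply, PowerSeries.constantCoeff_C] at h1
    · rw [RingHom.ker_comp_of_injective _ PowerSeries.C_injective, Ideal.mk_ker]
  · let K := FractionRing A'
    obtain ⟨R, hR, hmem, hlt⟩ := Groth.Agent.DvrDom.exists_dvr_dominating (A := A') hA K
    haveI := hR
    let ψ : A' →+* R := (algebraMap A' K).codRestrict R hmem
    haveI : IsLocalHom ψ := ⟨fun a ha => by
      by_contra hn
      have h1 := hlt a hn
      exact ne_of_lt h1 ((R.valuation_eq_one_iff _).1 ha)⟩
    refine ⟨R, inferInstance, inferInstance, hR, ψ.comp (Ideal.Quotient.mk P), RingHom.isLocalHom_comp _ _, ?_⟩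
    rw [RingHom.ker_comp_of_injective, Ideal.mk_ker]
    exact fun a b h => IsFractionRing.injective A' K (congrArg Subtype.val h)

end Groth.Agent.FlatDom
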