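import Mathlib
import Groth.Agent.FlatDom.Core
import Groth.Agent.FlatDom.Dvr

/-!
Flatness over a reduced noetherian local ring tested on discrete valuation rings (EGA IV 11.8.1).
-/

set_option autoImplicit false
set_option linter.style.haveILetI false
set_option backward.isDefEq.respectTransparency false

universe u

open TensorProduct IsLocalRing Groth.Agent.RG.Dev.Corep

namespace Groth.Agent.FlatDom

/-- Flatness at a point over a reduced noetherian local ring from flatness over all dominating discrete valuation rings. -/
theorem flat_at_of_dvr {A B : Type u} [CommRing A] [CommRing B] [Algebra A B] [Algebra.FinitePresentation A B]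
    (N : Type u) [AddCommGroup N] [Module B N] [Module A N] [IsScalarTower A B N] [Module.FinitePresentation B N]
    (p : Ideal A) [p.IsPrime] (q : Ideal B) [q.IsPrime] [q.LiesOver p]
    [IsNoetherianRing (Localization.AtPrime p)] [IsReduced (Localization.AtPrime p)]
    (h : ∀ (R : Type u) [CommRing R] [IsDomain R] [IsDiscreteValuationRing R] [Algebra A R],
      (maximalIdeal R).comap (algebraMap A R) = p →
      ∀ (T : Type u) [CommRing T] [Algebra R T] [Algebra B T] [Algebra A T] [IsScalarTower A R T] [IsScalarTower A B T]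
        [Algebra.IsPushout A R B T], PtsFlat R T q (T ⊗[B] N)) :
    Module.Flat A (LocalizedModule q.primeCompl N) := by
  obtain ⟨Ah, _, _, _, hfl, hov, hnoe, hred⟩ := exists_henselian_at_reduced p
  haveI := hfl
  haveI hover := hov
  haveI := hnoe
  haveI := hred
  refine flat_at_of_henselian_key N p q Ah ?_
  intro T _ _ _ _ _ _ _ P _ hPq _ I _ hI
  rw [eq_bot_iff]
  intro a ha
  refine (Submodule.mem_bot Ah).2 (isNilpotent_iff_eq_zero.1 ?_)
  rw [← mem_nilradical, nilradical, Ideal.zero_eq_bot, Ideal.radical_eq_sInf, Submodule.mem_sInf]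
  rintro Q ⟨-, hQ⟩
  haveI := hQ
  obtain ⟨V, _, _, _, φ, hφ, hker⟩ := exists_dvr_ker Ah Q
  letI : Algebra Ah V := φ.toAlgebra
  letI : Algebra A V := (φ.comp (algebraMap A Ah)).toAlgebra
  haveI : IsScalarTower A Ah V := IsScalarTower.of_algebraMap_eq fun _ => rfl
  haveI : IsLocalHom (algebraMap Ah V) := hφ
  have h1 := map_eq_bot_of_ptsFlat N q P hPq I hI V (h V (by
    show (maximalIdeal V).comap ((algebraMap Ah V).comp (algebraMap A Ah)) = p
    rw [← Ideal.comap_comap, IsLocalRing.maximalIdeal_comap (algebraMap Ah V)]
    exact hover.over.symm))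
  rw [← hker]
  exact (Submodule.mem_bot V).1 (h1 ▸ Ideal.mem_map_of_mem (algebraMap Ah V) ha)

end Groth.Agent.FlatDom
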