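import Mathlib
import Groth.Agent.FlatDom.Scheme
import Groth.Agent.FlatFam.Transfer

/-!
Flatness detected after base change to a universally closed morphism injective on sections at a point.
-/

set_option autoImplicit false
set_option linter.style.haveILetI false
set_option backward.isDefEq.respectTransparency false

universe u

open CategoryTheory CategoryTheory.Limits AlgebraicGeometry TensorProduct

namespace Groth.Agent.FlatDom

/-- A germ vanishes if and only if a multiple by an element invertible at the point does. -/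
theorem exists_mul_eq_zero_of_res {Y : Scheme.{u}} {V : Y.Opens} (hV : IsAffineOpen V) (y : Y) (hy : y ∈ V)
    (a : Γ(Y, V)) (W : Y.Opens) (hyW : y ∈ W) (hWV : W ≤ V) (h : Y.presheaf.map (homOfLE hWV).op a = 0) :
    ∃ s ∉ (hV.primeIdealOf ⟨y, hy⟩).asIdeal, s * a = 0 := by
  letI : Algebra Γ(Y, V) (Y.presheaf.stalk y) := (Y.presheaf.germ V y hy).hom.toAlgebra
  haveI : IsLocalization.AtPrime (Y.presheaf.stalk y) (hV.primeIdealOf ⟨y, hy⟩).asIdeal :=
    hV.isLocalization_stalk ⟨_, hy⟩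
  have h1 : algebraMap Γ(Y, V) (Y.presheaf.stalk y) a = 0 := by
    show Y.presheaf.germ V y hy a = 0
    rw [← TopCat.Presheaf.germ_res_apply Y.presheaf (homOfLE hWV) y hyW, h, map_zero]
  obtain ⟨s, hs⟩ := (IsLocalization.map_eq_zero_iff (hV.primeIdealOf ⟨y, hy⟩).asIdeal.primeCompl _ a).1 h1
  exact ⟨s.1, s.2, hs⟩

/-- Sections along a morphism through an affine open. -/
theorem appLE_comp_fromSpec {Y Z : Scheme.{u}} {V : Y.Opens} (hV : IsAffineOpen V) (π : Z ⟶ Spec Γ(Y, V))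
    (e : (⊤ : Z.Opens) ≤ (π ≫ hV.fromSpec) ⁻¹ᵁ V) :
    (π ≫ hV.fromSpec).appLE V ⊤ e = (Scheme.ΓSpecIso Γ(Y, V)).inv ≫ π.appTop := by
  rw [Scheme.Hom.comp_appLE, hV.fromSpec_app_self]
  simp only [Category.assoc]
  congr 1
  erw [Scheme.Hom.map_appLE]
  exact Scheme.Hom.appLE_eq_app _

/-- Sections along the inclusion of a preimage. -/
theorem appLE_ι_comp {Y Y' : Scheme.{u}} (g : Y' ⟶ Y) (V : Y.Opens)
    (e : (⊤ : (g ⁻¹ᵁ V).toScheme.Opens) ≤ ((g ⁻¹ᵁ V).ι ≫ g) ⁻¹ᵁ V) :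
    ((g ⁻¹ᵁ V).ι ≫ g).appLE V ⊤ e = g.app V ≫ (g ⁻¹ᵁ V).topIso.inv := by
  rw [Scheme.Hom.comp_appLE, Scheme.Opens.ι_appLE, Scheme.Opens.topIso_inv]
  rfl

/-- A section killed along the preimage of an affine open dies on it. -/
theorem app_eq_zero {Y Y' : Scheme.{u}} (g : Y' ⟶ Y) {V : Y.Opens} (hV : IsAffineOpen V)
    (π : (g ⁻¹ᵁ V).toScheme ⟶ Spec Γ(Y, V)) (hπ : π ≫ hV.fromSpec = (g ⁻¹ᵁ V).ι ≫ g) (a : Γ(Y, V))
    (ha : π.appTop ((Scheme.ΓSpecIso Γ(Y, V)).inv a) = 0) : g.app V a = 0 := by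
  have e : (⊤ : (g ⁻¹ᵁ V).toScheme.Opens) ≤ ((g ⁻¹ᵁ V).ι ≫ g) ⁻¹ᵁ V := by
    rw [Scheme.Hom.comp_preimage, Scheme.Opens.ι_preimage_self]
  have h4 : ∀ (k : (g ⁻¹ᵁ V).toScheme ⟶ Y) (hk : π ≫ hV.fromSpec = k) (ek : ⊤ ≤ k ⁻¹ᵁ V), k.appLE V ⊤ ek a = 0 := by
    intro k hk ek
    subst hk
    rw [appLE_comp_fromSpec]
    exact ha
  have h3 := h4 _ hπ e
  rw [appLE_ι_comp] at h3
  exact (g ⁻¹ᵁ V).topIso.commRingCatIsoToRingEquiv.symm.injective (h3.trans (map_zero _).symm)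

/-- Flatness at a point from flatness after a universally closed base change injective on sections at its image. -/
theorem isFlatOverAt_of_universallyClosed {X Y Y' : Scheme.{u}} (f : X ⟶ Y) [LocallyOfFinitePresentation f]
    (F : X.Modules) (hF : Coh.IsQCoh F) (hfp : CohB1.IsFP F) (x : X) (g : Y' ⟶ Y) [UniversallyClosed g]
    (hinj : ∀ (V : Y.Opens) (s : Γ(Y, V)), f x ∈ V → g.app V s = 0 →
      ∃ W : Y.Opens, f x ∈ W ∧ ∃ hWV : W ≤ V, Y.presheaf.map (homOfLE hWV).op s = 0)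
    (hflat : ∀ x' : ↥(pullback f g), pullback.fst f g x' = x →
      FlatMod.IsFlatOverAt (pullback.snd f g) ((Scheme.Modules.pullback (pullback.fst f g)).obj F) x') :
    FlatMod.IsFlatOverAt f F x := by
  obtain ⟨V, hV, hyV, -⟩ := exists_isAffineOpen_mem_and_subset (X := Y) (x := f x) (U := ⊤) trivial
  let ι := (g ⁻¹ᵁ V).ι
  let π : (g ⁻¹ᵁ V).toScheme ⟶ Spec Γ(Y, V) := (g ∣_ V) ≫ hV.isoSpec.hom
  have hgY : π ≫ hV.fromSpec = ι ≫ g := by
    rw [Category.assoc, ← hV.isoSpec_inv_ι, Iso.hom_inv_id_assoc, morphismRestrict_ι]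
  haveI : UniversallyClosed π := inferInstance
  refine isFlatOverAt_of_family f F hF hfp x hV hyV π (ι ≫ g) hgY ?_ ?_
  · intro a ha
    have h5 : g.app V a = 0 := app_eq_zero g hV π hgY a ha
    obtain ⟨W, hyW, hWV, hW⟩ := hinj V a hyV h5
    exact exists_mul_eq_zero_of_res hV (f x) hyV a W hyW hWV hW
  · intro x' hx'
    refine FlatFam.isFlatOverAt_factor f g ι (ι ≫ g) rfl F x' (hflat _ ?_)
    rw [← Scheme.Hom.comp_apply, FlatFam.baseMap_fst]
    exact hx'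

end Groth.Agent.FlatDom
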