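import Mathlib
import Groth.Agent.FlatDom.Chart
import Groth.Agent.QC.FiniteType
import Groth.Agent.ModDesc.Iso

/-!
The flattening ideal at a point of the closed fibre over a henselian local ring, in scheme form.
-/

set_option autoImplicit false
set_option linter.style.haveILetI false
set_option backward.isDefEq.respectTransparency false

universe u

open CategoryTheory CategoryTheory.Limits AlgebraicGeometry TensorProduct IsLocalRing
open Groth.Agent.RG.Dev.Corep

namespace Groth.Agent.FlatDom

/-- The flattening ideal at a prime, also off the support. -/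
theorem exists_corep_at {A B : Type u} [CommRing A] [HenselianLocalRing A] [CommRing B] [Algebra A B]
    [Algebra.FiniteType A B] (N : Type u) [AddCommGroup N] [Module B N] [Module.Finite B N] (q : Ideal B) [q.IsPrime]
    [q.LiesOver (maximalIdeal A)] :
    ∃ I : Ideal A, CorepT A B q N I ∧ (Algebra.FinitePresentation A B → Module.FinitePresentation B N → I.FG) := by
  classical
  by_cases hs : (⟨q, ‹_›⟩ : PrimeSpectrum B) ∈ Module.support B N
  · exact exists_corep_model (A := A) N q hs
  refine ⟨⊥, fun A' S'' _ _ _ _ _ _ _ _ _ _ _ => iff_of_true (fun P hP hPq _ => ?_) Ideal.map_bot,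
    fun _ _ => Submodule.fg_bot⟩
  haveI : Subsingleton (LocalizedModule P.primeCompl (S'' ⊗[B] N)) := by
    rw [LocalizedModule.subsingleton_iff]
    intro z
    induction z using TensorProduct.induction_on with
    | zero => exact ⟨1, Submonoid.one_mem _, smul_zero _⟩
    | tmul c m =>
      obtain ⟨t, ht, htm⟩ := Module.notMem_support_iff'.1 hs m
      refine ⟨algebraMap B S'' t, fun hmem => ht ((le_of_eq hPq) hmem), ?_⟩
      rw [algebraMap_smul, TensorProduct.smul_tmul', TensorProduct.smul_tmul, htm, TensorProduct.tmul_zero]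
    | add a b ha hb =>
      obtain ⟨s, hs', hsa⟩ := ha
      obtain ⟨t, ht, htb⟩ := hb
      exact ⟨s * t, mul_mem hs' ht, by rw [smul_add, mul_smul, smul_comm, hsa, smul_zero, mul_smul, htb, smul_zero, add_zero]⟩
  infer_instance

/-- Flatness at the points over two prime ideals, from the flattening ideal. -/
theorem points_iff_map_eq_bot {A B C T₀ : Type u} [CommRing A] [IsLocalRing A] [CommRing B] [Algebra A B] [CommRing C]
    [Algebra A C] [CommRing T₀] [Algebra A T₀] [Algebra C T₀] [Algebra B T₀] [IsScalarTower A C T₀]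
    [IsScalarTower A B T₀] [Algebra.IsPushout A C B T₀] (N : Type u) [AddCommGroup N] [Module B N] (q : Ideal B)
    (I : Ideal A) (hI : CorepT A B q N I) (pt : Ideal C) [pt.IsPrime]
    (hpt : pt.comap (algebraMap A C) = maximalIdeal A) :
    (∀ (P : Ideal T₀) [P.IsPrime], P.comap (algebraMap B T₀) = q → P.comap (algebraMap C T₀) = pt →
      Module.Flat C (LocalizedModule P.primeCompl (T₀ ⊗[B] N))) ↔
      ∀ a ∈ I, algebraMap C (Localization.AtPrime pt) (algebraMap A C a) = 0 := by
  let R' := Localization.AtPrime pt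
  haveI : IsLocalHom (algebraMap A R') := by
    refine ((IsLocalRing.local_hom_TFAE (algebraMap A R')).out 0 4).2 ?_
    rw [IsScalarTower.algebraMap_eq A C R', ← Ideal.comap_comap,
      show (maximalIdeal R').comap (algebraMap C R') = pt from Localization.AtPrime.comap_maximalIdeal]
    exact hpt
  obtain ⟨T₁, _, _, _, _, _, _, hpo⟩ := exists_bc C R' T₀
  haveI := hpo
  letI : Algebra B T₁ := ((algebraMap T₀ T₁).comp (algebraMap B T₀)).toAlgebra
  haveI : IsScalarTower B T₀ T₁ := IsScalarTower.of_algebraMap_eq fun _ => rfl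
  letI : Algebra A T₁ := ((algebraMap B T₁).comp (algebraMap A B)).toAlgebra
  haveI : IsScalarTower A B T₁ := IsScalarTower.of_algebraMap_eq fun _ => rfl
  haveI : IsScalarTower A C T₁ := IsScalarTower.of_algebraMap_eq fun x => by
    show algebraMap T₀ T₁ (algebraMap B T₀ (algebraMap A B x)) = _
    rw [← IsScalarTower.algebraMap_apply A B T₀, IsScalarTower.algebraMap_apply A C T₀,
      ← IsScalarTower.algebraMap_apply C T₀ T₁]
  haveI : IsScalarTower A R' T₁ := IsScalarTower.of_algebraMap_eq fun x => by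
    rw [IsScalarTower.algebraMap_apply A C T₁, IsScalarTower.algebraMap_apply C R' T₁,
      IsScalarTower.algebraMap_apply A C R']
  haveI : IsScalarTower A T₀ T₁ := IsScalarTower.of_algebraMap_eq fun x => by
    rw [IsScalarTower.algebraMap_apply A B T₁, IsScalarTower.algebraMap_apply A B T₀]; rfl
  haveI : Algebra.IsPushout A R' B T₁ :=
    (Algebra.IsPushout.comp_iff (R := A) (S := C) (R' := B) (S' := T₀) (T := R') (T' := T₁)).2 inferInstance
  rw [← ptsFlat_iff_points (R' := R') (T₁ := T₁) pt (N := T₀ ⊗[B] N) q]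
  have he : PtsFlat R' T₁ q (T₁ ⊗[T₀] (T₀ ⊗[B] N)) ↔ PtsFlat R' T₁ q (T₁ ⊗[B] N) :=
    ⟨ptsFlat_congr (AlgebraTensorModule.cancelBaseChange B T₀ T₁ T₁ N),
      ptsFlat_congr (AlgebraTensorModule.cancelBaseChange B T₀ T₁ T₁ N).symm⟩
  rw [he, hI R' T₁, Ideal.map_eq_bot_iff_le_ker]
  simp only [SetLike.le_def, RingHom.mem_ker, IsScalarTower.algebraMap_apply A C R']
  rfl

/-- The condition cutting out flatness at the points over a given point. -/
def IsPointIdeal {A : Type u} [CommRing A] [IsLocalRing A] {X : Scheme.{u}} (f : X ⟶ Spec (CommRingCat.of A))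
    (F : X.Modules) (x : X) (I : Ideal A) : Prop :=
  ∀ (T : Scheme.{u}) (g : T ⟶ Spec (CommRingCat.of A)) (t : T), g t = closedPoint A →
    ((∀ x' : ↥(pullback f g), pullback.snd f g x' = t → pullback.fst f g x' = x →
      FlatMod.IsFlatOverAt (pullback.snd f g) ((Scheme.Modules.pullback (pullback.fst f g)).obj F) x') ↔
      ∀ a ∈ I, (T.presheaf.germ ⊤ t trivial).hom (g.appTop.hom ((Scheme.ΓSpecIso (CommRingCat.of A)).inv.hom a)) = 0)

/-- Flattening ideals at points of the closed fibre exist. -/
theorem exists_pointIdeal {A : Type u} [CommRing A] [HenselianLocalRing A] {X : Scheme.{u}}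
    (f : X ⟶ Spec (CommRingCat.of A)) [LocallyOfFiniteType f] (F : X.Modules) (hq : Coh.IsQCoh F)
    (hF : CohB1.IsFT F) (x : X) (hx : f x = closedPoint A) :
    ∃ I : Ideal A, IsPointIdeal f F x I ∧ (LocallyOfFinitePresentation f → CohB1.IsFP F → I.FG) := by
  let S := Spec (CommRingCat.of A)
  let V : S.Opens := ⊤
  have hV : IsAffineOpen V := isAffineOpen_top S
  obtain ⟨W, hW, hxW, e⟩ := exists_isAffineOpen_mem_and_subset (X := X) (x := x) (U := f ⁻¹ᵁ V) trivial
  let A₀ := Γ(S, V)
  let B := Γ(X, W)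
  let eA : A ≃+* A₀ := (Scheme.ΓSpecIso (CommRingCat.of A)).symm.commRingCatIsoToRingEquiv
  letI : Algebra A₀ B := (f.appLE V W e).hom.toAlgebra
  letI : Algebra A A₀ := (eA : A →+* A₀).toAlgebra
  letI : Algebra A B := ((algebraMap A₀ B).comp (algebraMap A A₀)).toAlgebra
  haveI : IsScalarTower A A₀ B := IsScalarTower.of_algebraMap_eq fun _ => rfl
  haveI : Algebra.FiniteType A₀ B := f.finiteType_appLE hV hW e
  haveI : Algebra.FiniteType A A₀ :=
    RingHom.finiteType_algebraMap.1 (RingHom.FiniteType.of_surjective (eA : A →+* A₀) eA.surjective)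
  haveI : Algebra.FiniteType A B := Algebra.FiniteType.trans (S := A₀) inferInstance inferInstance
  haveI : F.IsQuasicoherent := hq
  haveI : Module.Finite B Γ(F, W) := Groth.Agent.QC.finite_sections hW hF
  let q := (hW.primeIdealOf ⟨x, hxW⟩).asIdeal
  haveI : q.LiesOver (maximalIdeal A) := ⟨by
    have h1 : PrimeSpectrum.comap (algebraMap A₀ B) (hW.primeIdealOf ⟨x, hxW⟩) = hV.primeIdealOf ⟨f x, trivial⟩ := by
      apply hV.fromSpec.isOpenEmbedding.injective
      show hV.fromSpec _ = hV.fromSpec _
      rw [hV.fromSpec_primeIdealOf]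
      refine (congr($(hV.SpecMap_appLE_fromSpec f hW e).base (hW.primeIdealOf ⟨x, hxW⟩))).trans ?_
      exact congrArg f.base (hW.fromSpec_primeIdealOf _)
    have h2 : (hV.primeIdealOf ⟨f x, trivial⟩).asIdeal.IsMaximal := hV.primeIdealOf_isMaximal_of_isClosed _ (by
      show IsClosed ({f x} : Set S)
      rw [hx]
      exact (PrimeSpectrum.isClosed_singleton_iff_isMaximal _).2 (maximalIdeal.isMaximal A))
    show _ = Ideal.comap ((algebraMap A₀ B).comp (algebraMap A A₀)) q
    rw [← Ideal.comap_comap, show q.comap (algebraMap A₀ B) = _ from congrArg PrimeSpectrum.asIdeal h1]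
    haveI := h2
    exact (eq_maximalIdeal (Ideal.comap_isMaximal_of_surjective (eA : A →+* A₀) eA.surjective)).symm⟩
  obtain ⟨I, hI, hIfg⟩ := exists_corep_at (A := A) Γ(F, W) q
  refine ⟨I, ?_, fun hlfp hfp => ?_⟩
  swap
  · haveI := hlfp
    haveI : Algebra.FinitePresentation A₀ B := f.finitePresentation_appLE hV hW e
    haveI : Algebra.FinitePresentation A A₀ :=
      RingHom.finitePresentation_algebraMap.1 (RingHom.FinitePresentation.of_bijective (f := (eA : A →+* A₀)) eA.bijective)
    exact hIfg (Algebra.FinitePresentation.trans A A₀ B) (LocFree.finitePresentation_sections_of_isFP hq hfp hW)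
  intro T g t hgt
  obtain ⟨O, hO, htO, -⟩ := exists_isAffineOpen_mem_and_subset (X := T) (x := t) (U := ⊤) trivial
  have eO : O ≤ g ⁻¹ᵁ V := fun z _ => trivial
  let g' := pullback.fst f g
  let f' := pullback.snd f g
  have hc : IsPullback g' f' f g := IsPullback.of_hasPullback f g
  let W' : (pullback f g).Opens := g' ⁻¹ᵁ W ⊓ f' ⁻¹ᵁ O
  have hW' : IsAffineOpen W' := by
    haveI : IsAffine _ := hV
    haveI : IsAffine _ := hW
    haveI : IsAffine _ := hO
    exact .of_isIso (Scheme.Hom.isPullback_resLE hc eO e (rfl : W' = _)).isoPullback.hom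
  have hP := (isIso_pushoutSection_iff hc eO e (rfl : W' = _)).1
    (isIso_pushoutSection_of_isAffineOpen hc eO e rfl hV hO hW)
  let C := Γ(T, O)
  let T₀ := Γ(pullback f g, W')
  letI : Algebra A₀ C := (g.appLE V O eO).hom.toAlgebra
  letI : Algebra A C := ((algebraMap A₀ C).comp (algebraMap A A₀)).toAlgebra
  haveI : IsScalarTower A A₀ C := IsScalarTower.of_algebraMap_eq fun _ => rfl
  letI : Algebra B T₀ := (g'.appLE W W' inf_le_left).hom.toAlgebra
  letI : Algebra C T₀ := (f'.appLE O W' inf_le_right).hom.toAlgebra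
  letI : Algebra A T₀ := ((algebraMap B T₀).comp (algebraMap A B)).toAlgebra
  haveI : IsScalarTower A B T₀ := IsScalarTower.of_algebraMap_eq fun _ => rfl
  haveI : IsScalarTower A C T₀ := IsScalarTower.of_algebraMap_eq fun a => congr($(hP.w).hom (algebraMap A A₀ a))
  haveI : Algebra.IsPushout A C B T₀ := by
    haveI : Algebra.IsPushout A B C T₀ := by
      refine CommRingCat.isPushout_iff_isPushout.1 (hP.of_iso (Scheme.ΓSpecIso (CommRingCat.of A))
        (Iso.refl _) (Iso.refl _) (Iso.refl _) ?_ ?_ ?_ ?_)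
      · ext a
        show algebraMap A₀ B a = algebraMap A₀ B (eA ((Scheme.ΓSpecIso (CommRingCat.of A)).hom a))
        exact congrArg _ (eA.apply_symm_apply a).symm
      · ext a
        show algebraMap A₀ C a = algebraMap A₀ C (eA ((Scheme.ΓSpecIso (CommRingCat.of A)).hom a))
        exact congrArg _ (eA.apply_symm_apply a).symm
      · rfl
      · rfl
    exact Algebra.IsPushout.symm inferInstance
  let pt := hO.primeIdealOf ⟨t, htO⟩
  have hpt : pt.asIdeal.comap (algebraMap A C) = maximalIdeal A := by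
    have h1 : PrimeSpectrum.comap (algebraMap A₀ C) pt = hV.primeIdealOf ⟨f x, trivial⟩ := by
      apply hV.fromSpec.isOpenEmbedding.injective
      show hV.fromSpec _ = hV.fromSpec _
      rw [hV.fromSpec_primeIdealOf]
      refine (congr($(hV.SpecMap_appLE_fromSpec g hO eO).base pt)).trans ?_
      show g (hO.fromSpec _) = f x
      rw [hO.fromSpec_primeIdealOf, hx]
      exact hgt
    show pt.asIdeal.comap ((algebraMap A₀ C).comp (algebraMap A A₀)) = _
    rw [← Ideal.comap_comap, show pt.asIdeal.comap (algebraMap A₀ C) = _ from congrArg PrimeSpectrum.asIdeal h1]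
    have h2 : (hV.primeIdealOf ⟨f x, trivial⟩).asIdeal.IsMaximal := hV.primeIdealOf_isMaximal_of_isClosed _ (by
      show IsClosed ({f x} : Set S)
      rw [hx]
      exact (PrimeSpectrum.isClosed_singleton_iff_isMaximal _).2 (maximalIdeal.isMaximal A))
    exact eq_maximalIdeal (Ideal.comap_isMaximal_of_surjective (eA : A →+* A₀) eA.surjective)
  have hmid := points_iff_map_eq_bot (T₀ := T₀) Γ(F, W) q I hI pt.asIdeal hpt
  refine Iff.trans ?_ (hmid.trans ?_)
  · constructor
    · intro h P _ hPq hPc
      let Pp : PrimeSpectrum T₀ := ⟨P, ‹_›⟩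
      have hgP : g' (hW'.fromSpec Pp) = x :=
        (congr($(hW.SpecMap_appLE_fromSpec g' hW' inf_le_left).base Pp)).symm.trans
          ((congrArg _ (PrimeSpectrum.ext hPq : PrimeSpectrum.comap (algebraMap B T₀) Pp = hW.primeIdealOf ⟨x, hxW⟩)).trans
            (hW.fromSpec_primeIdealOf _))
      have hfP : f' (hW'.fromSpec Pp) = t :=
        (congr($(hO.SpecMap_appLE_fromSpec f' hW' inf_le_right).base Pp)).symm.trans
          ((congrArg _ (PrimeSpectrum.ext hPc : PrimeSpectrum.comap (algebraMap C T₀) Pp = pt)).trans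
            (hO.fromSpec_primeIdealOf _))
      obtain ⟨hmem, hpt'⟩ := Groth.Agent.InjFibre.primeIdealOf_fromSpec hW' Pp
      have h2 := (isFlatOverAt_iff_localized hc F hq hW hO (hW'.fromSpec Pp) hmem.1 hmem.2 hW').1 (h _ hfP hgP)
      rw [hpt'] at h2
      exact h2
    · intro h x' hxt hxx
      have hxW' : g' x' ∈ W := hxx.symm ▸ hxW
      have hxO' : f' x' ∈ O := hxt.symm ▸ htO
      refine (isFlatOverAt_iff_localized hc F hq hW hO x' hxW' hxO' hW').2 (h _ ?_ ?_)
      · refine congrArg PrimeSpectrum.asIdeal (?_ : PrimeSpectrum.comap (algebraMap B T₀) (hW'.primeIdealOf ⟨x', hxW', hxO'⟩) = hW.primeIdealOf ⟨x, hxW⟩)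
        apply hW.fromSpec.isOpenEmbedding.injective
        show hW.fromSpec _ = hW.fromSpec _
        rw [hW.fromSpec_primeIdealOf]
        refine (congr($(hW.SpecMap_appLE_fromSpec g' hW' inf_le_left).base (hW'.primeIdealOf ⟨x', hxW', hxO'⟩))).trans ?_
        show g' (hW'.fromSpec _) = x
        rw [hW'.fromSpec_primeIdealOf]
        exact hxx
      · refine congrArg PrimeSpectrum.asIdeal (?_ : PrimeSpectrum.comap (algebraMap C T₀) (hW'.primeIdealOf ⟨x', hxW', hxO'⟩) = pt)
        apply hO.fromSpec.isOpenEmbedding.injective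
        show hO.fromSpec _ = hO.fromSpec _
        rw [hO.fromSpec_primeIdealOf]
        refine (congr($(hO.SpecMap_appLE_fromSpec f' hW' inf_le_right).base (hW'.primeIdealOf ⟨x', hxW', hxO'⟩))).trans ?_
        show f' (hW'.fromSpec _) = t
        rw [hW'.fromSpec_primeIdealOf]
        exact hxt
  · letI : Algebra C (T.presheaf.stalk t) := (T.presheaf.germ O t htO).hom.toAlgebra
    haveI : IsLocalization.AtPrime (T.presheaf.stalk t) pt.asIdeal := hO.isLocalization_stalk ⟨_, htO⟩
    let ε := IsLocalization.algEquiv pt.asIdeal.primeCompl (Localization.AtPrime pt.asIdeal) (T.presheaf.stalk t)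
    refine forall₂_congr fun a _ => ?_
    have h1 : (T.presheaf.germ ⊤ t trivial).hom (g.appTop.hom ((Scheme.ΓSpecIso (CommRingCat.of A)).inv.hom a)) =
        algebraMap C (T.presheaf.stalk t) (algebraMap A C a) := by
      show _ = T.presheaf.germ O t htO ((g.appLE V O eO) (eA a))
      rw [Scheme.Hom.appLE, CommRingCat.comp_apply, TopCat.Presheaf.germ_res_apply]
      rfl
    rw [h1]
    constructor
    · intro h
      rw [← ε.commutes, h, map_zero]
    · intro h
      apply ε.injective
      rw [ε.commutes, map_zero]; exact h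

end Groth.Agent.FlatDom
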