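import Mathlib
import Groth.Agent.InjFibre.Stalk
import Groth.Agent.SchDense.Unit
import Groth.Agent.FibCrit.Scheme

/-!
Flatness of a morphism at a point as flatness of the structure module.
-/

set_option autoImplicit false
set_option linter.style.haveILetI false
set_option backward.isDefEq.respectTransparency false

universe u

open CategoryTheory CategoryTheory.Limits AlgebraicGeometry TensorProduct

namespace Groth.Agent.FlatDom

/-- The stalk map is flat if and only if the structure module is flat over the base at the point. -/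
theorem flat_stalkMap_iff {X Y : Scheme.{u}} (f : X ⟶ Y) (x : X) :
    (f.stalkMap x).hom.Flat ↔ FlatMod.IsFlatOverAt f (Coh.structureModule X) x := by
  obtain ⟨V, hV, hyV, -⟩ := exists_isAffineOpen_mem_and_subset (X := Y) (x := f x) (U := ⊤) trivial
  obtain ⟨W, hW, hxW, e⟩ := exists_isAffineOpen_mem_and_subset (X := X) (x := x) (U := f ⁻¹ᵁ V) hyV
  let A := Γ(Y, V)
  let B := Γ(X, W)
  let q := (hW.primeIdealOf ⟨x, hxW⟩).asIdeal
  let p := (hV.primeIdealOf ⟨f x, hyV⟩).asIdeal
  let Ox := X.presheaf.stalk x
  let Oy := Y.presheaf.stalk (f x)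
  letI : Algebra A B := (f.appLE V W e).hom.toAlgebra
  letI : Module A Γ(Coh.structureModule X, W) := Module.compHom Γ(Coh.structureModule X, W) (f.appLE V W e).hom
  haveI : IsScalarTower A B Γ(Coh.structureModule X, W) := IsScalarTower.of_algebraMap_smul fun _ _ => rfl
  letI : Algebra B Ox := (X.presheaf.germ W x hxW).hom.toAlgebra
  haveI : IsLocalization.AtPrime Ox q := hW.isLocalization_stalk ⟨_, hxW⟩
  letI : Algebra A Oy := (Y.presheaf.germ V (f x) hyV).hom.toAlgebra
  haveI : IsLocalization.AtPrime Oy p := hV.isLocalization_stalk ⟨_, hyV⟩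
  letI : Algebra Oy Ox := (f.stalkMap x).hom.toAlgebra
  letI : Algebra A Ox := ((algebraMap B Ox).comp (algebraMap A B)).toAlgebra
  haveI : IsScalarTower A B Ox := IsScalarTower.of_algebraMap_eq fun _ => rfl
  haveI : IsScalarTower A Oy Ox := IsScalarTower.of_algebraMap_eq fun a =>
    (FibCrit.germ_comm f V W e x hxW a).symm
  rw [InjFibre.isFlatOverAt_iff f _ (QC.isQCoh_unit X) hV hW e x hxW]
  show RingHom.Flat (algebraMap Oy Ox) ↔ _
  rw [RingHom.flat_algebraMap_iff, Module.flat_iff_of_isLocalization Oy p.primeCompl Ox]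
  let g : Γ(Coh.structureModule X, W) →ₗ[B] Ox :=
    { toFun := fun b => X.presheaf.germ W x hxW b
      map_add' := fun a b => map_add (X.presheaf.germ W x hxW).hom a b
      map_smul' := fun a b => map_mul (X.presheaf.germ W x hxW).hom a b }
  haveI : IsLocalizedModule q.primeCompl g := by
    have h0 : IsLocalizedModule q.primeCompl (Algebra.linearMap B Ox) := inferInstance
    exact h0
  let e₁ : LocalizedModule q.primeCompl Γ(Coh.structureModule X, W) ≃ₗ[B] Ox := IsLocalizedModule.iso q.primeCompl g
  exact ⟨fun h => haveI := h; Module.Flat.of_linearEquiv (e₁.restrictScalars A),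
    fun h => haveI := h; Module.Flat.of_linearEquiv (e₁.restrictScalars A).symm⟩

end Groth.Agent.FlatDom
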